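import Mathlib
import Cfsg.Agent.Lib.PSolvable.Core
import Cfsg.Agent.Lib.Transfer.Basic
import Cfsg.Agent.Lib.Fitting.Basic
import Cfsg.Agent.Lib.Qd.Facts

/-!
# Tools for groups whose `p'`-subgroups are abelian

Elements split into a `p`-part and a `p'`-part, automorphisms of abelian `q`-groups, solvable
groups with an abelian Sylow subgroup and the nonsolvability of `SL(2, p)`.
-/

set_option autoImplicit false
set_option linter.style.haveILetI false

namespace CfsgLib.PPrimeAbelian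

variable {G : Type*} [Group G]

/-- `g` is the product of commuting powers of itself, one a `p`-element, one of order prime to `p`. -/
theorem exists_split [Finite G] {p : ℕ} (hp : p.Prime) (g : G) :
    ∃ x y : G, g = x * y ∧ x ∈ Subgroup.zpowers g ∧ y ∈ Subgroup.zpowers g ∧
      (∃ k : ℕ, orderOf x = p ^ k) ∧ (orderOf y).Coprime p := by
  obtain ⟨k, m, hm, hn⟩ := Nat.exists_eq_pow_mul_and_not_dvd (orderOf_pos g).ne' p hp.ne_one
  have hcop : Int.gcd ((p ^ k : ℕ) : ℤ) (m : ℤ) = 1 := by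
    rw [Int.gcd_natCast_natCast]
    exact ((hp.coprime_iff_not_dvd.mpr hm).pow_left k)
  have hbez := Int.gcd_eq_gcd_ab ((p ^ k : ℕ) : ℤ) (m : ℤ)
  rw [hcop] at hbez
  refine ⟨g ^ ((m : ℤ) * Int.gcdB ((p ^ k : ℕ) : ℤ) m),
    g ^ (((p ^ k : ℕ) : ℤ) * Int.gcdA ((p ^ k : ℕ) : ℤ) m), ?_,
    Subgroup.zpow_mem _ (Subgroup.mem_zpowers g) _, Subgroup.zpow_mem _ (Subgroup.mem_zpowers g) _,
    ?_, ?_⟩
  · rw [← zpow_add, add_comm, ← hbez, Nat.cast_one, zpow_one]
  · obtain ⟨i, -, hi⟩ := (Nat.dvd_prime_pow hp).mp (orderOf_dvd_of_pow_eq_one (n := p ^ k)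
      (x := g ^ ((m : ℤ) * Int.gcdB ((p ^ k : ℕ) : ℤ) m)) (by
        have e : (m : ℤ) * Int.gcdB ((p ^ k : ℕ) : ℤ) m * ((p ^ k : ℕ) : ℤ) =
            (orderOf g : ℤ) * Int.gcdB ((p ^ k : ℕ) : ℤ) m := by rw [hn, Nat.cast_mul]; ring
        rw [← zpow_natCast, ← zpow_mul, e, zpow_mul, zpow_natCast, pow_orderOf_eq_one, one_zpow]))
    exact ⟨i, hi⟩
  · refine Nat.Coprime.coprime_dvd_left (orderOf_dvd_of_pow_eq_one (n := m) ?_)
      (hp.coprime_iff_not_dvd.mpr hm).symm
    have e : ((p ^ k : ℕ) : ℤ) * Int.gcdA ((p ^ k : ℕ) : ℤ) m * (m : ℤ) =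
        (orderOf g : ℤ) * Int.gcdA ((p ^ k : ℕ) : ℤ) m := by rw [hn, Nat.cast_mul]; ring
    rw [← zpow_natCast, ← zpow_mul, e, zpow_mul, zpow_natCast, pow_orderOf_eq_one, one_zpow]

/-- An element of order prime to `q` normalizing an abelian `q`-subgroup and fixing its elements
of order dividing `q` centralizes it. -/
theorem commute_of_fix_omega {q : ℕ} {S : Subgroup G} (hS : IsPGroup q S)
    (hab : IsMulCommutative S) {g : G} (hg : g ∈ Subgroup.normalizer (S : Set G))
    (hcop : (orderOf g).Coprime q) (hfix : ∀ x ∈ S, x ^ q = 1 → g * x * g⁻¹ = x) :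
    ∀ x ∈ S, g * x * g⁻¹ = x := by
  have key : ∀ k : ℕ, ∀ x ∈ S, x ^ q ^ k = 1 → g * x * g⁻¹ = x := by
    intro k
    induction k with
    | zero => intro x _ h; rw [pow_zero, pow_one] at h; rw [h]; group
    | succ k ih =>
      intro x hx h
      have hgx : g * x * g⁻¹ ∈ S := (Subgroup.mem_normalizer_iff.mp hg x).mp hx
      have h2 : g * x ^ q * g⁻¹ = x ^ q :=
        ih _ (S.pow_mem hx q) (by rw [← pow_mul, ← pow_succ']; exact h)
      set z := x⁻¹ * (g * x * g⁻¹) with hz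
      have hzS : z ∈ S := S.mul_mem (S.inv_mem hx) hgx
      have hcxz : Commute x⁻¹ (g * x * g⁻¹) :=
        congrArg Subtype.val (hab.is_comm.comm (⟨_, S.inv_mem hx⟩ : S) ⟨_, hgx⟩)
      have hzq : z ^ q = 1 := by
        rw [hz, hcxz.mul_pow, inv_pow, conj_pow, h2, inv_mul_cancel]
      have hgz : g * z * g⁻¹ = z := hfix z hzS hzq
      have hn : ∀ n : ℕ, g ^ n * x * (g ^ n)⁻¹ = x * z ^ n := by
        intro n
        induction n with
        | zero => simp
        | succ n ihn =>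
          calc g ^ (n + 1) * x * (g ^ (n + 1))⁻¹ = g * (g ^ n * x * (g ^ n)⁻¹) * g⁻¹ := by
                rw [pow_succ']; group
            _ = g * x * g⁻¹ * (g * z ^ n * g⁻¹) := by rw [ihn]; group
            _ = x * z * z ^ n := by
                rw [← conj_pow, hgz, hz, mul_inv_cancel_left]
            _ = x * z ^ (n + 1) := by rw [pow_succ', mul_assoc]
      have h3 := hn (orderOf g)
      rw [pow_orderOf_eq_one, inv_one, mul_one, one_mul] at h3
      have h4 : z ^ orderOf g = 1 := mul_left_cancel (a := x) (by rw [← h3, mul_one])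
      have h5 : orderOf z ∣ Nat.gcd (orderOf g) q :=
        Nat.dvd_gcd (orderOf_dvd_of_pow_eq_one h4) (orderOf_dvd_of_pow_eq_one hzq)
      rw [hcop.gcd_eq_one, Nat.dvd_one, orderOf_eq_one_iff] at h5
      calc g * x * g⁻¹ = x * z := by rw [hz, mul_inv_cancel_left]
        _ = x := by rw [h5, mul_one]
  intro x hx
  obtain ⟨k, hk⟩ := hS ⟨x, hx⟩
  exact key k x hx (congrArg Subtype.val hk)

theorem centralizer_core_le {H : Type*} [Group H] [Finite H] {q : ℕ} [Fact q.Prime]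
    [(Cfsg.pPrimeCore q H).Normal] (hH : Group.IsSolvable H) :
    Subgroup.centralizer (Cfsg.pCore q (H ⧸ Cfsg.pPrimeCore q H) : Set (H ⧸ Cfsg.pPrimeCore q H)) ≤
      Cfsg.pCore q (H ⧸ Cfsg.pPrimeCore q H) := by
  haveI := hH
  exact PSolvable.centralizer_pCore_le (PSolvable.isPSolvable_of_isSolvable inferInstance)
    (PSolvable.pPrimeCore_eq_bot_of_ker (QuotientGroup.mk'_surjective _) (QuotientGroup.ker_mk' _))

/-- In a solvable group with abelian Sylow `q`-subgroup `S`, `S` is normal modulo `O_{q'}`. -/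
theorem map_sylow_eq_pCore {H : Type*} [Group H] [Finite H] {q : ℕ} [Fact q.Prime]
    [(Cfsg.pPrimeCore q H).Normal] (hH : Group.IsSolvable H)
    (S : Sylow q H) (hS : IsMulCommutative (S : Subgroup H)) :
    (S : Subgroup H).map (QuotientGroup.mk' (Cfsg.pPrimeCore q H)) =
      Cfsg.pCore q (H ⧸ Cfsg.pPrimeCore q H) := by
  set f := QuotientGroup.mk' (Cfsg.pPrimeCore q H)
  have hf : Function.Surjective f := QuotientGroup.mk'_surjective _
  have hS' : ((S.mapSurjective hf : Sylow q (H ⧸ Cfsg.pPrimeCore q H)) :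
      Subgroup (H ⧸ Cfsg.pPrimeCore q H)) = (S : Subgroup H).map f := rfl
  have hR : Cfsg.pCore q (H ⧸ Cfsg.pPrimeCore q H) ≤ (S : Subgroup H).map f := by
    rw [Fitting.pCore_eq_iInf_sylow, ← hS']
    exact iInf_le _ (S.mapSurjective hf)
  refine le_antisymm ?_ hR
  rintro _ ⟨s, hs, rfl⟩
  refine centralizer_core_le hH (Subgroup.mem_centralizer_iff.mpr fun r hr => ?_)
  obtain ⟨r', hr', rfl⟩ := hR hr
  rw [← map_mul, ← map_mul,
    show r' * s = s * r' from congrArg Subtype.val (hS.is_comm.comm (⟨r', hr'⟩ : (S : Subgroup H)) ⟨s, hs⟩)]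

/-- A `q'`-subgroup normalized by the abelian Sylow `q`-subgroup lies in `O_{q'}`. -/
theorem le_pPrimeCore_of_normalized {H : Type*} [Group H] [Finite H] {q : ℕ} [Fact q.Prime]
    (hH : Group.IsSolvable H) (S : Sylow q H) (hS : IsMulCommutative (S : Subgroup H))
    {X : Subgroup H} (hX : (Nat.card X).Coprime q)
    (hSX : (S : Subgroup H) ≤ Subgroup.normalizer (X : Set H)) :
    X ≤ Cfsg.pPrimeCore q H := by
  haveI := Transfer.pPrimeCore_normal q H
  haveI := Fitting.pCore_normal (G := H ⧸ Cfsg.pPrimeCore q H) q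
  have hR := map_sylow_eq_pCore hH S hS
  set f := QuotientGroup.mk' (Cfsg.pPrimeCore q H)
  have hbot : ∀ y ∈ X.map f, y ∈ (S : Subgroup H).map f → y = 1 := by
    intro y hyX hyS
    have h1 : orderOf y ∣ Nat.card X := by
      refine (?_ : orderOf y ∣ Nat.card (X.map f)).trans (Subgroup.card_map_dvd X f)
      exact (Subgroup.orderOf_coe (⟨y, hyX⟩ : X.map f)) ▸ orderOf_dvd_natCard _
    obtain ⟨k, hk⟩ := (S.2.map f) ⟨y, hyS⟩
    have h2 : orderOf y ∣ q ^ k := orderOf_dvd_of_pow_eq_one (congrArg Subtype.val hk)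
    have h3 : orderOf y ∣ Nat.gcd (q ^ k) (Nat.card X) := Nat.dvd_gcd h2 h1
    rw [(hX.symm.pow_left k).gcd_eq_one, Nat.dvd_one, orderOf_eq_one_iff] at h3
    exact h3
  intro x hx
  rw [← QuotientGroup.eq_one_iff]
  show f x = 1
  refine hbot _ (Subgroup.mem_map_of_mem f hx) ?_
  rw [hR]
  refine centralizer_core_le hH (Subgroup.mem_centralizer_iff.mpr fun r hr => ?_)
  have hr' : r ∈ (S : Subgroup H).map f := hR ▸ hr
  obtain ⟨s, hs, rfl⟩ := hr'
  have hc : f (s * x * s⁻¹ * x⁻¹) = 1 := by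
    refine hbot _ (Subgroup.mem_map_of_mem f (X.mul_mem
      ((Subgroup.mem_normalizer_iff.mp (hSX hs) x).mp hx) (X.inv_mem hx))) ?_
    rw [hR, show s * x * s⁻¹ * x⁻¹ = s * (x * s⁻¹ * x⁻¹) by group, map_mul, map_mul, map_mul,
      map_inv, map_inv]
    exact mul_mem hr (Subgroup.Normal.conj_mem inferInstance _ (inv_mem hr) _)
  rw [map_mul, map_mul, map_mul, map_inv, map_inv, mul_inv_eq_one, mul_inv_eq_iff_eq_mul] at hc
  exact hc

/-- A solvable group with abelian Sylow `q`-subgroup `S` is `O_{q'}(H) N(S)`. -/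
theorem exists_core_mul_normalizer {H : Type*} [Group H] [Finite H] {q : ℕ} [Fact q.Prime]
    (hH : Group.IsSolvable H) (S : Sylow q H) (hS : IsMulCommutative (S : Subgroup H)) (h : H) :
    ∃ o ∈ Cfsg.pPrimeCore q H, ∃ n ∈ Subgroup.normalizer ((S : Subgroup H) : Set H), h = o * n := by
  haveI := Transfer.pPrimeCore_normal q H
  haveI := Fitting.pCore_normal (G := H ⧸ Cfsg.pPrimeCore q H) q
  have hR := map_sylow_eq_pCore hH S hS
  set f := QuotientGroup.mk' (Cfsg.pPrimeCore q H)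
  have hx : f h ∈ Subgroup.normalizer
      ((((S : Subgroup H).map f) : Subgroup (H ⧸ Cfsg.pPrimeCore q H)) :
        Set (H ⧸ Cfsg.pPrimeCore q H)) := by
    rw [hR, Subgroup.normalizer_eq_top_iff.mpr inferInstance]
    exact Subgroup.mem_top _
  have hker : (Nat.card f.ker).Coprime q := by
    rw [QuotientGroup.ker_mk']
    exact Transfer.pPrimeCore_coprime q
  obtain ⟨n, hn, he⟩ := PSolvable.exists_mem_normalizer_of_map (p := q) hker S.2 hx
  refine ⟨h * n⁻¹, ?_, n, hn, by group⟩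
  rw [← QuotientGroup.eq_one_iff]
  show f (h * n⁻¹) = 1
  rw [map_mul, map_inv, he, mul_inv_cancel]

/-- `SL(2, p)` is not solvable for `p ≥ 5`. -/
theorem not_isSolvable_sl2 {p : ℕ} [hp : Fact p.Prime] (h5 : 5 ≤ p) :
    ¬ Group.IsSolvable (Matrix.SpecialLinearGroup (Fin 2) (ZMod p)) := by
  intro hs
  have h3 : (3 : ZMod p) ≠ 0 := by
    intro h
    have h' : ((3 : ℕ) : ZMod p) = 0 := by exact_mod_cast h
    rw [ZMod.natCast_eq_zero_iff] at h'
    have := Nat.le_of_dvd (by norm_num) h'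
    omega
  have h2 : (2 : ZMod p) ≠ 0 := by
    intro h
    have h' : ((2 : ℕ) : ZMod p) = 0 := by exact_mod_cast h
    rw [ZMod.natCast_eq_zero_iff] at h'
    have := Nat.le_of_dvd (by norm_num) h'
    omega
  let d : Matrix.SpecialLinearGroup (Fin 2) (ZMod p) :=
    ⟨!![2, 0; 0, 2⁻¹], by simp [Matrix.det_fin_two_of, h2]⟩
  have hd : d * SL2.up (1 : ZMod p) * d⁻¹ = SL2.up (4 : ZMod p) := by
    rw [mul_inv_eq_iff_eq_mul]
    have hdc : (d : Matrix (Fin 2) (Fin 2) (ZMod p)) = !![2, 0; 0, 2⁻¹] := rfl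
    refine Matrix.SpecialLinearGroup.ext _ _ fun i j => ?_
    simp only [Matrix.SpecialLinearGroup.coe_mul, SL2.up_coe, hdc]
    fin_cases i <;> fin_cases j <;> simp [Matrix.mul_apply, Fin.sum_univ_two]
    rw [show (4 : ZMod p) = 2 * 2 by norm_num, mul_assoc, mul_inv_cancel₀ h2, mul_one]
  have htop : ∀ n, derivedSeries (Matrix.SpecialLinearGroup (Fin 2) (ZMod p)) n = ⊤ := by
    intro n
    induction n with
    | zero => rfl
    | succ n ih =>
      rw [derivedSeries_succ, ih]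
      refine Qd.eq_top_of_normal (p := p) ?_
      have hmem : SL2.up (3 : ZMod p) ∈
          ⁅(⊤ : Subgroup (Matrix.SpecialLinearGroup (Fin 2) (ZMod p))),
            (⊤ : Subgroup (Matrix.SpecialLinearGroup (Fin 2) (ZMod p)))⁆ := by
        have e : SL2.up (3 : ZMod p) = d * SL2.up (1 : ZMod p) * d⁻¹ * (SL2.up (1 : ZMod p))⁻¹ := by
          rw [hd, ← SL2.up_neg, ← SL2.up_add]
          norm_num
        rw [e]
        exact Subgroup.commutator_mem_commutator (Subgroup.mem_top _) (Subgroup.mem_top _)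
      obtain ⟨k, hk⟩ := ZMod.natCast_zmod_surjective ((3 : ZMod p)⁻¹)
      have e : SL2.up (1 : ZMod p) = SL2.up (3 : ZMod p) ^ k := by
        rw [SL2.up, SL2.up, ← map_pow, ← ofAdd_nsmul, nsmul_eq_mul, hk, inv_mul_cancel₀ h3]
      rw [e]
      exact Subgroup.pow_mem _ hmem k
  obtain ⟨n, hn⟩ := hs.solvable
  have hu : SL2.up (1 : ZMod p) ∈ (⊥ : Subgroup (Matrix.SpecialLinearGroup (Fin 2) (ZMod p))) := by
    rw [← hn, htop n]
    exact Subgroup.mem_top _
  have h00 := congrArg (fun M : Matrix.SpecialLinearGroup (Fin 2) (ZMod p) => M.1 0 1)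
    (Subgroup.mem_bot.mp hu)
  simp [SL2.up_coe] at h00

end CfsgLib.PPrimeAbelian
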