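import Cfsg.Agent.Lib.PPrimeAbelian.Tools
import Cfsg.Agent.Lib.Transfer.Basic
import Cfsg.Agent.S0144

/-!
# A minimal nonsolvable group whose `p'`-subgroups are abelian of exponent dividing `p - 1`
-/

set_option autoImplicit false
set_option linter.style.haveILetI false
set_option linter.unusedSectionVars false

namespace CfsgLib.PPrimeAbelian

variable {G : Type*} [Group G] [Finite G] {p : ℕ}

/-- A simple nonsolvable group with solvable proper subgroups, all of whose `p'`-subgroups are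
abelian of exponent dividing `p - 1`. -/
structure Hyp (G : Type*) [Group G] (p : ℕ) : Prop where
  simple : IsSimpleGroup G
  not_solvable : ¬ Group.IsSolvable G
  proper : ∀ H : Subgroup G, H ≠ ⊤ → Group.IsSolvable H
  ab : ∀ H : Subgroup G, (Nat.card ↥H).Coprime p →
    IsMulCommutative ↥H ∧ ∀ x ∈ H, x ^ (p - 1) = 1

theorem coprime_card_sup {A B : Subgroup G} (hB : B ≤ Subgroup.normalizer (A : Set G))
    (hA : (Nat.card A).Coprime p) (hBc : (Nat.card B).Coprime p) :
    (Nat.card ↥(A ⊔ B)).Coprime p := by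
  set N := Subgroup.normalizer (A : Set G)
  have hAN : A ≤ N := Subgroup.le_normalizer
  have h := Transfer.coprime_card_sup_of_normal (G := N) (p := p) (A := A.subgroupOf N)
    (B := B.subgroupOf N) Subgroup.normal_in_normalizer
    (by rwa [Nat.card_congr (Subgroup.subgroupOfEquivOfLe hAN).toEquiv])
    (by rwa [Nat.card_congr (Subgroup.subgroupOfEquivOfLe hB).toEquiv])
  rwa [← Subgroup.subgroupOf_sup hAN hB,
    Nat.card_congr (Subgroup.subgroupOfEquivOfLe (sup_le hAN hB)).toEquiv] at h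

theorem Hyp.pow_eq_one (hh : Hyp G p) {x : G} (hx : (orderOf x).Coprime p) : x ^ (p - 1) = 1 :=
  (hh.ab (Subgroup.zpowers x) (by rwa [Nat.card_zpowers])).2 x (Subgroup.mem_zpowers x)

theorem Hyp.orderOf_dvd (hh : Hyp G p) {x : G} (hx : (orderOf x).Coprime p) : orderOf x ∣ p - 1 :=
  orderOf_dvd_of_pow_eq_one (hh.pow_eq_one hx)

theorem Hyp.eq_bot_or_eq_top (hh : Hyp G p) {N : Subgroup G} (hN : N.Normal) : N = ⊥ ∨ N = ⊤ :=
  haveI := hh.simple
  hN.eq_bot_or_eq_top

theorem Hyp.ne_top_of_isSolvable (hh : Hyp G p) {H : Subgroup G} (hH : Group.IsSolvable H) :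
    H ≠ ⊤ := fun h => hh.not_solvable
  (haveI := hH; Group.isSolvable_of_surjective (f := H.subtype) fun x => ⟨⟨x, h ▸ Subgroup.mem_top x⟩, rfl⟩)

theorem Hyp.center_eq_bot (hh : Hyp G p) : Subgroup.center G = ⊥ := by
  refine (hh.eq_bot_or_eq_top inferInstance).resolve_right fun h => ?_
  exact hh.ne_top_of_isSolvable (H := Subgroup.center G)
    (Group.isSolvable_of_comm fun a b => Subtype.ext ((Subgroup.mem_center_iff.mp b.2) a)) h

theorem Hyp.commutator_eq_top (hh : Hyp G p) : commutator G = ⊤ := by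
  refine (hh.eq_bot_or_eq_top inferInstance).resolve_left fun h => ?_
  exact hh.not_solvable ⟨1, by rw [derivedSeries_one, h]⟩

theorem Hyp.centralizer_ne_top (hh : Hyp G p) {x : G} (hx : x ≠ 1) :
    Subgroup.centralizer ({x} : Set G) ≠ ⊤ := fun h => hx (by
  rw [← Subgroup.mem_bot, ← hh.center_eq_bot, Subgroup.mem_center_iff]
  intro g
  have hg : g ∈ Subgroup.centralizer ({x} : Set G) := h ▸ Subgroup.mem_top g
  exact Subgroup.mem_centralizer_singleton_iff.mp hg)

theorem Hyp.normalizer_ne_top (hh : Hyp G p) {K : Subgroup G} (h0 : K ≠ ⊥) (h1 : K ≠ ⊤) :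
    Subgroup.normalizer (K : Set G) ≠ ⊤ := fun h =>
  (hh.eq_bot_or_eq_top (Subgroup.normalizer_eq_top_iff.mp h)).elim h0 h1

theorem sylow_coprime [Fact p.Prime] {q : ℕ} [Fact q.Prime] (hqp : q ≠ p) (Q : Sylow q G) :
    (Nat.card (Q : Subgroup G)).Coprime p := by
  obtain ⟨k, hk⟩ := IsPGroup.iff_card.mp Q.2
  rw [hk]
  exact ((Nat.coprime_primes Fact.out Fact.out).mpr hqp).pow_left k

/-- A `p'`-element normalizing a `p'`-subgroup centralizes it. -/
theorem Hyp.commute_of_normalizes (hh : Hyp G p) {A : Subgroup G} (hA : (Nat.card A).Coprime p)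
    {n : G} (hn : n ∈ Subgroup.normalizer (A : Set G)) (hnc : (orderOf n).Coprime p) {x : G}
    (hx : x ∈ A) : n * x = x * n := by
  have h := (hh.ab (A ⊔ Subgroup.zpowers n) (coprime_card_sup (Subgroup.zpowers_le.mpr hn) hA
    (by rwa [Nat.card_zpowers]))).1
  exact congrArg Subtype.val (h.is_comm.comm
    (⟨n, Subgroup.mem_sup_right (Subgroup.mem_zpowers n)⟩ : ↥(A ⊔ Subgroup.zpowers n))
    ⟨x, Subgroup.mem_sup_left hx⟩)

/-- For a Sylow `q`-subgroup, `q ≠ p`, some `p`-element normalizes without centralizing it. -/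
theorem Hyp.exists_p_element (hh : Hyp G p) [hp : Fact p.Prime] {q : ℕ} [hq : Fact q.Prime]
    (hqp : q ≠ p) (Q : Sylow q G) (hQ : (Q : Subgroup G) ≠ ⊥) :
    ∃ n ∈ Subgroup.normalizer ((Q : Subgroup G) : Set G), (∃ k : ℕ, orderOf n = p ^ k) ∧
      ∃ x ∈ (Q : Subgroup G), n * x ≠ x * n := by
  obtain ⟨n, hn, x, hx, hnx⟩ : ∃ n ∈ Subgroup.normalizer ((Q : Subgroup G) : Set G),
      ∃ x ∈ (Q : Subgroup G), n * x ≠ x * n := by
    by_contra hcon
    push Not at hcon
    obtain ⟨P, N, hN, hc⟩ := Transfer.hasNormalPComplement_of_normalizer_le_centralizer Q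
      fun n hn => Subgroup.mem_centralizer_iff.mpr fun x hx => (hcon n hn x hx).symm
    rcases hh.eq_bot_or_eq_top hN with rfl | rfl
    · have hPtop : (P : Subgroup G) = ⊤ := Subgroup.isComplement'_bot_left.mp hc
      haveI := P.2.isNilpotent
      exact hh.ne_top_of_isSolvable (H := (P : Subgroup G)) inferInstance hPtop
    · have hPbot : (P : Subgroup G) = ⊥ := Subgroup.isComplement'_top_left.mp hc
      refine hQ (Subgroup.card_eq_one.mp ?_)
      rw [Sylow.card_eq_multiplicity, ← P.card_eq_multiplicity, hPbot, Subgroup.card_bot]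
  obtain ⟨a, b, hab, ha, hb, hak, hbc⟩ := exists_split hp.out n
  have hbx := hh.commute_of_normalizes (sylow_coprime hqp Q)
    (Subgroup.zpowers_le.mpr hn hb) hbc hx
  refine ⟨a, Subgroup.zpowers_le.mpr hn ha, hak, x, hx, fun hax => hnx ?_⟩
  rw [hab, mul_assoc, hbx, ← mul_assoc, hax, mul_assoc]

theorem Hyp.ne_two (hh : Hyp G p) [hp : Fact p.Prime] : p ≠ 2 := by
  rintro rfl
  refine hh.not_solvable ?_
  have hG : IsPGroup 2 G := IsPGroup.of_card (Nat.eq_prime_pow_of_unique_prime_dvd Nat.card_pos.ne'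
    fun {q} hq hqd => by
    by_contra hq2
    haveI := Fact.mk hq
    obtain ⟨x, hx⟩ := exists_prime_orderOf_dvd_card' (G := G) q hqd
    have h1 : x ^ (2 - 1) = 1 := hh.pow_eq_one
      (by rw [hx]; exact (Nat.coprime_primes hq Nat.prime_two).mpr hq2)
    rw [pow_one] at h1
    rw [h1, orderOf_one] at hx
    exact hq.one_lt.ne hx)
  haveI := hG.isNilpotent
  infer_instance

theorem Hyp.five_le (hh : Hyp G p) [hp : Fact p.Prime] : 5 ≤ p := by
  by_contra h5
  have h3 : p = 3 := by
    have := hh.ne_two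
    have := hp.out.two_le
    by_contra
    have h4 : p = 4 := by omega
    exact absurd (h4 ▸ hp.out) (by decide)
  subst h3
  refine hh.not_solvable (Cfsg.Agent.S0144.result 2 3 ((Nat.card G).factorization 2)
    ((Nat.card G).factorization 3) Nat.prime_two Nat.prime_three ?_)
  refine Nat.eq_of_factorization_eq Nat.card_pos.ne' (by positivity) fun q => ?_
  rw [Nat.factorization_mul (by positivity) (by positivity), Finsupp.add_apply,
    Nat.prime_two.factorization_pow, Nat.prime_three.factorization_pow]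
  by_cases h2 : q = 2
  · subst h2; simp
  by_cases h3' : q = 3
  · subst h3'; simp
  rw [Finsupp.single_eq_of_ne (Ne.symm (Ne.symm h2)), Finsupp.single_eq_of_ne (Ne.symm (Ne.symm h3'))]
  by_contra hne
  have hq : q.Prime := by
    by_contra hq
    exact hne (by rw [Nat.factorization_eq_zero_of_not_prime _ hq, add_zero])
  haveI := Fact.mk hq
  have hqd : q ∣ Nat.card G := Nat.dvd_of_factorization_pos (fun h0 => hne (by rw [h0, add_zero]))
  obtain ⟨x, hx⟩ := exists_prime_orderOf_dvd_card' (G := G) q hqd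
  have hd := hh.orderOf_dvd (x := x) (by rw [hx]; exact (Nat.coprime_primes hq Nat.prime_three).mpr h3')
  rw [hx] at hd
  exact h2 ((Nat.prime_dvd_prime_iff_eq hq Nat.prime_two).mp hd)

end CfsgLib.PPrimeAbelian
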