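import Cfsg.Agent.Lib.PPrimeAbelian.Maximal

/-!
# The counting contradiction

For `x ≠ 1` a `p`-element, the `p'`-elements centralizing `x` are no more than the Sylow
`p`-subgroups containing `x`; the `p'`-elements make up at most `k / p` of the group, `k` the
number of primes dividing `p - 1`. Together with `|N(P)| ≥ 2 |P|` this is impossible.
-/

set_option autoImplicit false
set_option linter.style.haveILetI false
set_option linter.unusedSectionVars false

namespace CfsgLib.PPrimeAbelian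

open scoped commutatorElement Pointwise

variable {G : Type*} [Group G] [Finite G] {p : ℕ}

theorem eq_one_of_orders {x : G} {j : ℕ} (h1 : x ^ p ^ j = 1) (h2 : (orderOf x).Coprime p) : x = 1 := by
  have h3 : orderOf x ∣ Nat.gcd (orderOf x) (p ^ j) :=
    Nat.dvd_gcd dvd_rfl (orderOf_dvd_of_pow_eq_one h1)
  rwa [(h2.pow_right j).gcd_eq_one, Nat.dvd_one, orderOf_eq_one_iff] at h3

theorem coprime_orderOf_of_mem {A : Subgroup G} (hA : (Nat.card A).Coprime p) {x : G} (hx : x ∈ A) :
    (orderOf x).Coprime p :=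
  hA.coprime_dvd_left ((Subgroup.orderOf_coe (⟨x, hx⟩ : A)) ▸ orderOf_dvd_natCard _)

variable [hp : Fact p.Prime] (hh : Hyp G p)

include hh

theorem exists_prime_sylow {y : G} (hy : (orderOf y).Coprime p) (hy1 : y ≠ 1) :
    ∃ q : ℕ, ∃ _ : Fact q.Prime, ∃ Q : Sylow q G, q ≠ p ∧ (Q : Subgroup G) ≠ ⊥ ∧ q ∣ p - 1 ∧
      ∃ i : ℕ, y ^ i ≠ 1 ∧ y ^ i ∈ (Q : Subgroup G) := by
  obtain ⟨q, hq, hqd⟩ := Nat.exists_prime_and_dvd (mt orderOf_eq_one_iff.mp hy1)
  haveI := Fact.mk hq
  have hord := orderOf_pow_orderOf_div (orderOf_pos y).ne' hqd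
  obtain ⟨Q, hQ⟩ := (IsPGroup.of_card (n := 1) (by rw [Nat.card_zpowers, hord, pow_one]) :
    IsPGroup q (Subgroup.zpowers (y ^ (orderOf y / q)))).exists_le_sylow
  have hm := hQ (Subgroup.mem_zpowers _)
  have hne : y ^ (orderOf y / q) ≠ 1 := fun h => hq.one_lt.ne (by rw [← hord, h, orderOf_one])
  exact ⟨q, inferInstance, Q,
    fun h => hp.out.ne_one (Nat.eq_one_of_dvd_coprimes hy (h ▸ hqd) dvd_rfl),
    fun h => hne (Subgroup.mem_bot.mp (h ▸ hm)), hqd.trans (hh.orderOf_dvd hy), _, hne, hm⟩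

section Big

variable {q : ℕ} [hq : Fact q.Prime] (Q : Sylow q G) (hqp : q ≠ p) (hQ : (Q : Subgroup G) ≠ ⊥)

include hqp hQ

/-- `big Q / kernel Q` is a `p`-group covered by a Sylow `p`-subgroup. -/
theorem exists_kernel_mul (PM : Sylow p (big Q)) {m : G} (hm : m ∈ big Q) :
    ∃ k ∈ kernel p Q, ∃ e ∈ (PM : Subgroup (big Q)).map (big Q).subtype, m = k * e := by
  haveI := Transfer.pPrimeCore_normal p (big Q)
  set F := Cfsg.pPrimeCore p (big Q)
  set f := QuotientGroup.mk' F
  have hf : Function.Surjective f := QuotientGroup.mk'_surjective F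
  have hU : IsPGroup p (big Q ⧸ F) := by
    intro u
    obtain ⟨t, rfl⟩ := hf u
    obtain ⟨a, b, hab, -, -, ⟨k, hk⟩, hb⟩ := exists_split hp.out t
    refine ⟨k, ?_⟩
    have hb' : f b = 1 := by
      obtain ⟨c, hc, hce⟩ := mem_kernel hh Q hqp hQ b.2 (by rwa [Subgroup.orderOf_coe])
      rw [← (big Q).subtype_injective hce]
      exact (QuotientGroup.eq_one_iff c).mpr hc
    rw [hab, map_mul, hb', mul_one, ← map_pow, ← hk, pow_orderOf_eq_one, map_one]
  have htop : (PM : Subgroup (big Q)).map f = ⊤ :=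
    ((PM.mapSurjective hf).3 (hU.to_subgroup ⊤) le_top).symm
  obtain ⟨e, he, hee⟩ := htop.ge (Subgroup.mem_top (f ⟨m, hm⟩))
  refine ⟨m * (e : G)⁻¹, ⟨⟨m, hm⟩ * e⁻¹, (QuotientGroup.eq_one_iff _).mp ?_, rfl⟩, e,
    Subgroup.mem_map_of_mem _ he, by group⟩
  show f (⟨m, hm⟩ * e⁻¹) = 1
  rw [map_mul, map_inv, hee, mul_inv_cancel]

/-- An element of `kernel Q` centralizing a Sylow `p`-subgroup of `big Q` is trivial. -/
theorem eq_one_of_commute_sylow (PM : Sylow p (big Q)) {a : G} (ha : a ∈ kernel p Q)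
    (hc : ∀ e ∈ (PM : Subgroup (big Q)).map (big Q).subtype, e * a = a * e) : a = 1 := by
  refine eq_one_of_commute hh Q hqp hQ ha fun n hn _ => ?_
  obtain ⟨k, hk, e, he, rfl⟩ := exists_kernel_mul hh Q hqp hQ PM hn
  exact ((show Commute k a from kernel_commute hh Q hqp hQ hk ha).mul_left (hc e he)).eq

theorem sylow_big_ne_bot (PM : Sylow p (big Q)) :
    (PM : Subgroup (big Q)).map (big Q).subtype ≠ ⊥ := by
  intro h
  obtain ⟨n, hn, -, x, hx, hnx⟩ := hh.exists_p_element hqp Q hQ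
  obtain ⟨k, hk, e, he, rfl⟩ := exists_kernel_mul hh Q hqp hQ PM (Subgroup.mem_sup_right hn)
  rw [h, Subgroup.mem_bot] at he
  subst he
  rw [mul_one] at hnx
  exact hnx (kernel_commute hh Q hqp hQ hk (sylow_le_kernel hh Q hqp hQ hx))

theorem mul_card_kernel_le : p * Nat.card (kernel p Q) ≤ Nat.card (big Q) := by
  obtain ⟨PM⟩ := (inferInstance : Nonempty (Sylow p (big Q)))
  set R := (PM : Subgroup (big Q)).map (big Q).subtype
  have hR : IsPGroup p R := PM.2.map _
  obtain ⟨n, hn⟩ := IsPGroup.iff_card.mp hR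
  have hn0 : n ≠ 0 := fun h =>
    sylow_big_ne_bot hh Q hqp hQ PM (Subgroup.card_eq_one.mp (by rw [hn, h, pow_zero]))
  have h1 : p ∣ Nat.card (big Q) := (dvd_pow_self p hn0).trans
    (hn ▸ Subgroup.card_dvd_of_le (Subgroup.map_subtype_le _))
  refine Nat.le_of_dvd Nat.card_pos ?_
  exact (kernel_coprime hh Q hqp hQ).symm.mul_dvd_of_dvd_of_dvd h1
    (Subgroup.card_dvd_of_le (kernel_le_big hh Q hqp hQ))

end Big

/-- A maximal subgroup with non-trivial `O_{p'}` is some `big S`. -/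
theorem exists_big_eq {L : Subgroup G} (hL : IsCoatom L) (hc : core p L ≠ ⊥) :
    ∃ q : ℕ, ∃ _ : Fact q.Prime, ∃ Q : Sylow q G,
      q ≠ p ∧ (Q : Subgroup G) ≠ ⊥ ∧ L = big Q := by
  obtain ⟨c, hcm, hc1⟩ := (Subgroup.bot_or_exists_ne_one (core p L)).resolve_left hc
  obtain ⟨q, hq, Q, hqp, hQ, -, i, hi1, hiQ⟩ :=
    exists_prime_sylow hh (coprime_orderOf_of_mem (core_coprime L) hcm) hc1
  refine ⟨q, hq, Q, hqp, hQ, ?_⟩
  have hcK : core p L ≤ kernel p Q := fun z hz => by
    refine mem_kernel hh Q hqp hQ (centralizer_le_big Q hh hqp hQ hiQ hi1 ?_)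
      (coprime_orderOf_of_mem (core_coprime L) hz)
    exact Subgroup.mem_centralizer_singleton_iff.mpr (congrArg Subtype.val
      ((hh.ab _ (core_coprime L)).1.is_comm.comm (⟨z, hz⟩ : core p L) ⟨c ^ i, pow_mem hcm i⟩))
  have hQL : (Q : Subgroup G) ≤ L := by
    rw [← normalizer_eq_of_coatom hh hL hc (core_le L) (le_normalizer_core L)]
    intro y hy
    exact Subgroup.centralizer_le_normalizer _ (Subgroup.mem_centralizer_iff.mpr fun z hz =>
      kernel_commute hh Q hqp hQ (hcK hz) (sylow_le_kernel hh Q hqp hQ hy))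
  exact ((hL.le_iff.mp (le_big Q hh hqp hQ hL.1 hQL)).resolve_left (big_ne_top Q hh hqp hQ)).symm

/-- The normalizer of a Sylow `p`-subgroup is maximal with trivial `O_{p'}`. -/
theorem normalizer_sylow (P : Sylow p G) (hP : (P : Subgroup G) ≠ ⊥) :
    IsCoatom (Subgroup.normalizer ((P : Subgroup G) : Set G)) ∧
      core p (Subgroup.normalizer ((P : Subgroup G) : Set G)) = ⊥ ∧
      Subgroup.normalizer ((P : Subgroup G) : Set G) ≠ (P : Subgroup G) ∧
      ⁅Subgroup.normalizer ((P : Subgroup G) : Set G),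
        Subgroup.normalizer ((P : Subgroup G) : Set G)⁆ ≤ (P : Subgroup G) := by
  have hZ0 : ZJ.zJ p (P : Subgroup G) ≠ ⊥ := by
    intro h0
    obtain ⟨z, hz, hz1, -⟩ := ZJ.zJ_ne_bot (p := p) (e := p) (Or.inr rfl) P.2 hP
    exact hz1 (Subgroup.mem_bot.mp (h0 ▸ hz))
  have hPtop : (P : Subgroup G) ≠ ⊤ :=
    hh.ne_top_of_isSolvable (haveI := P.2.isNilpotent; inferInstance)
  obtain ⟨L, hL, hNL⟩ := (eq_top_or_exists_le_coatom
    (Subgroup.normalizer (ZJ.zJ p (P : Subgroup G) : Set G))).resolve_left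
    (hh.normalizer_ne_top hZ0 fun h => hPtop (top_le_iff.mp (h ▸ ZJ.zJ_le p _)))
  have hNPL := (ZJ.normalizer_le_normalizer_zJ p (P : Subgroup G)).trans hNL
  have hPL : (P : Subgroup G) ≤ L := Subgroup.le_normalizer.trans hNPL
  have hPc := le_commutator_of_control hh P hPL hNL
  by_cases hc : core p L = ⊥
  swap
  · exfalso
    obtain ⟨q, hq, Q, hqp, hQ, rfl⟩ := exists_big_eq hh hL hc
    -- `big Q / kernel Q` is a non-trivial `p`-group
    haveI := Transfer.pPrimeCore_normal p (big Q)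
    set f := QuotientGroup.mk' (Cfsg.pPrimeCore p (big Q))
    have hf : Function.Surjective f := QuotientGroup.mk'_surjective _
    have hmap : ((P.subtype hPL : Sylow p (big Q)) : Subgroup (big Q)).map f = ⊤ := by
      refine eq_top_iff.mpr fun u _ => ?_
      obtain ⟨⟨m, hm⟩, rfl⟩ := hf u
      obtain ⟨k, hk, e, he, hke⟩ := exists_kernel_mul hh Q hqp hQ (P.subtype hPL) hm
      obtain ⟨e', he', rfl⟩ := he
      obtain ⟨k', hk', rfl⟩ := hk
      refine ⟨e', he', ?_⟩
      have h1 : (⟨m, hm⟩ : big Q) = k' * e' := Subtype.ext hke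
      rw [h1, map_mul, show f k' = 1 from (QuotientGroup.eq_one_iff k').mpr hk', one_mul]
    haveI := (P.subtype hPL).2.isNilpotent
    haveI := ((P.subtype hPL).2.map f).isNilpotent
    have h2 : ((P.subtype hPL : Sylow p (big Q)) : Subgroup (big Q)) ≤ commutator (big Q) := fun x hx => by
      have h1 : (x : G) ∈ ⁅big Q, big Q⁆ := hPc hx
      rw [← Subgroup.map_subtype_commutator] at h1
      obtain ⟨y, hy, hxy⟩ := h1
      rwa [(big Q).subtype_injective hxy] at hy
    have h3 : ((P.subtype hPL : Sylow p (big Q)) : Subgroup (big Q)).map f = ⊥ := by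
      refine Transfer.eq_bot_of_le_commutator_self ?_
      refine (Subgroup.map_mono h2).trans ?_
      rw [commutator_def, Subgroup.map_commutator, hmap]
      exact Subgroup.commutator_mono le_top le_top
    refine hP (eq_bot_iff.mpr fun x hx => Subgroup.mem_bot.mpr ?_)
    have h4 : f ⟨x, hPL hx⟩ = 1 := by
      rw [← Subgroup.mem_bot, ← h3]
      exact Subgroup.mem_map_of_mem f hx
    obtain ⟨j, hj⟩ := P.2 ⟨x, hx⟩
    exact eq_one_of_orders (j := j) (congrArg Subtype.val hj) (coprime_orderOf_of_mem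
      (kernel_coprime hh Q hqp hQ) ⟨⟨x, hPL hx⟩, (QuotientGroup.eq_one_iff _).mp h4, rfl⟩)
  obtain ⟨P', hLeq, hcom⟩ := exists_sylow_of_core_eq_bot hh hL
    (fun h => hP (le_bot_iff.mp (h ▸ hPL))) hc
  have hPP : (P : Subgroup G) = (P' : Subgroup G) := (P.3 P'.2 (hPc.trans hcom)).symm
  have hLN : L = Subgroup.normalizer ((P : Subgroup G) : Set G) := by rw [hLeq, hPP]
  refine ⟨hLN ▸ hL, hLN ▸ hc, ?_, by rw [← hLN, hPP]; exact hcom⟩
  intro h
  rw [← hLN] at h
  haveI := P.2.isNilpotent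
  haveI : Group.IsNilpotent L := h ▸ inferInstance
  refine hP (h ▸ Transfer.eq_bot_of_le_commutator_self ?_)
  nth_rewrite 1 [h]
  exact hPc

section Big

variable {q : ℕ} [hq : Fact q.Prime] (Q : Sylow q G) (hqp : q ≠ p) (hQ : (Q : Subgroup G) ≠ ⊥)

include hqp hQ

/-- A `p`-element of `big Q` fixing a non-trivial element of the kernel has its centralizer in
`big Q`, or the element is fixed by all `p`-elements of `big Q` centralizing it. -/
theorem centralizer_le_or {x a : G} (hx1 : x ≠ 1) (ha : a ∈ kernel p Q) (ha1 : a ≠ 1)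
    (hxa : x * a = a * x) :
    Subgroup.centralizer ({x} : Set G) ≤ big Q ∨
      ∀ e ∈ big Q, (∃ j : ℕ, e ^ p ^ j = 1) → e * x = x * e → e * a = a * e := by
  obtain ⟨L, hL, hCL⟩ := (eq_top_or_exists_le_coatom
    (Subgroup.centralizer ({x} : Set G))).resolve_left (hh.centralizer_ne_top hx1)
  have haL : a ∈ L := hCL (Subgroup.mem_centralizer_singleton_iff.mpr hxa.symm)
  by_cases hc : core p L = ⊥
  · refine Or.inr fun e he ⟨j, hj⟩ hex => ?_
    have heL : e ∈ L := hCL (Subgroup.mem_centralizer_singleton_iff.mpr hex)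
    obtain ⟨P', -, hcom⟩ := exists_sylow_of_core_eq_bot hh hL
      (fun h => ha1 (Subgroup.mem_bot.mp (h ▸ haL))) hc
    obtain ⟨i, hi⟩ := P'.2 ⟨_, hcom (Subgroup.commutator_mem_commutator heL haL)⟩
    have h1 : ⁅e, a⁆ = 1 := eq_one_of_orders (j := i) (congrArg Subtype.val hi)
      (coprime_orderOf_of_mem (kernel_coprime hh Q hqp hQ) (mul_mem
        ((Subgroup.mem_normalizer_iff.mp (le_normalizer_core (big Q) he) a).mp ha) (inv_mem ha)))
    rwa [commutatorElement_eq_one_iff_mul_comm] at h1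
  · refine Or.inl (hCL.trans (le_of_eq ?_))
    obtain ⟨r, hr, S, hrp, hS, rfl⟩ := exists_big_eq hh hL hc
    have ha' := mem_kernel hh S hrp hS haL (coprime_orderOf_of_mem (kernel_coprime hh Q hqp hQ) ha)
    have hSQ : (S : Subgroup G) ≤ big Q := fun z hz => centralizer_le_of_mem_kernel hh Q hqp hQ ha ha1
      (Subgroup.mem_centralizer_singleton_iff.mpr
        (kernel_commute hh S hrp hS (sylow_le_kernel hh S hrp hS hz) ha'))
    exact big_eq_of_le hh Q hqp hQ S hrp hS hSQ

/-- A Sylow `p`-subgroup of `big Q` has a central element fixing nothing in the kernel. -/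
theorem exists_fpf (PM : Sylow p (big Q)) :
    ∃ z ∈ (PM : Subgroup (big Q)).map (big Q).subtype, z ≠ 1 ∧
      (∀ e ∈ (PM : Subgroup (big Q)).map (big Q).subtype, e * z = z * e) ∧
      ∀ a ∈ kernel p Q, z * a = a * z → a = 1 := by
  set R := (PM : Subgroup (big Q)).map (big Q).subtype with hRdef
  have hR : IsPGroup p R := PM.2.map _
  have hR0 : R ≠ ⊥ := sylow_big_ne_bot hh Q hqp hQ PM
  have hRM : R ≤ big Q := Subgroup.map_subtype_le _
  haveI : Nontrivial R := (Subgroup.nontrivial_iff_ne_bot R).mpr hR0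
  obtain ⟨⟨⟨z, hz⟩, hzc⟩, hz1⟩ := @exists_ne (Subgroup.center R) hR.center_nontrivial 1
  have hz1' : z ≠ 1 := fun h => hz1 (Subtype.ext (Subtype.ext h))
  have hcz : ∀ e ∈ R, e * z = z * e := fun e he =>
    congrArg Subtype.val (Subgroup.mem_center_iff.mp hzc ⟨e, he⟩)
  -- a central element with a fixed point has its centralizer in `big Q`
  have dich : ∀ w ∈ R, w ≠ 1 → (∀ e ∈ R, e * w = w * e) →
      ∀ a ∈ kernel p Q, a ≠ 1 → w * a = a * w → Subgroup.centralizer ({w} : Set G) ≤ big Q := by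
    intro w _ hw1 hwc a ha ha1 hwa
    refine (centralizer_le_or hh Q hqp hQ hw1 ha ha1 hwa).resolve_right fun h => ha1 ?_
    refine eq_one_of_commute_sylow hh Q hqp hQ PM ha fun e he => h e (hRM he) ?_ (hwc e he)
    obtain ⟨j, hj⟩ := hR ⟨e, he⟩
    exact ⟨j, congrArg Subtype.val hj⟩
  obtain ⟨n, hn, hnM⟩ : ∃ n ∈ Subgroup.normalizer (R : Set G), n ∉ big Q := by
    obtain ⟨P, hP⟩ := hR.exists_le_sylow
    rcases hP.eq_or_lt with h | h
    · obtain ⟨hco, hc, -⟩ := normalizer_sylow hh P (fun h0 => hR0 (h.trans h0))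
      rw [← h] at hco hc
      by_contra hcon
      push Not at hcon
      have e := (hco.le_iff.mp (show Subgroup.normalizer (R : Set G) ≤ big Q from hcon)).resolve_left
        (big_ne_top Q hh hqp hQ)
      rw [← e] at hc
      exact hQ (le_bot_iff.mp ((sylow_le_kernel hh Q hqp hQ).trans hc.le))
    · obtain ⟨u, hu, huR⟩ := SetLike.exists_of_lt (Transfer.lt_inf_normalizer P.2 h)
      refine ⟨u, hu.2, fun huM => huR ?_⟩
      set U := (P : Subgroup G) ⊓ Subgroup.normalizer (R : Set G)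
      have h2 : U.subgroupOf (big Q) = (PM : Subgroup (big Q)) := by
        refine PM.3 ((P.2.to_le (inf_le_left : U ≤ _)).comap_of_injective (big Q).subtype
          (big Q).subtype_injective) fun x hx => ?_
        exact ⟨hP (Subgroup.mem_map_of_mem _ hx), Subgroup.le_normalizer (Subgroup.mem_map_of_mem _ hx)⟩
      have h3 : (⟨u, huM⟩ : big Q) ∈ U.subgroupOf (big Q) := hu
      rw [h2] at h3
      exact Subgroup.mem_map_of_mem (big Q).subtype h3
  by_cases h : ∀ a ∈ kernel p Q, z * a = a * z → a = 1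
  · exact ⟨z, hz, hz1', hcz, h⟩
  push Not at h
  obtain ⟨a, ha, hza, ha1⟩ := h
  set w := n * z * n⁻¹ with hw
  have hwR : w ∈ R := (Subgroup.mem_normalizer_iff.mp hn z).mp hz
  have hw1 : w ≠ 1 := fun h => hz1' (conj_eq_one_iff.mp h)
  have hcw : ∀ e ∈ R, e * w = w * e := fun e he => by
    have he' : n⁻¹ * e * n ∈ R := by
      have := (Subgroup.mem_normalizer_iff.mp (inv_mem hn) e).mp he
      rwa [inv_inv] at this
    calc e * w = n * (n⁻¹ * e * n * z) * n⁻¹ := by rw [hw]; group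
      _ = n * (z * (n⁻¹ * e * n)) * n⁻¹ := by rw [hcz _ he']
      _ = w * e := by rw [hw]; group
  refine ⟨w, hwR, hw1, hcw, fun b hb hwb => ?_⟩
  by_contra hb1
  have hcwM := dich w hwR hw1 hcw b hb hb1 hwb
  have haM : n * a * n⁻¹ ∈ big Q := hcwM (Subgroup.mem_centralizer_singleton_iff.mpr (by
    calc n * a * n⁻¹ * w = n * (a * z) * n⁻¹ := by rw [hw]; group
      _ = n * (z * a) * n⁻¹ := by rw [hza]
      _ = w * (n * a * n⁻¹) := by rw [hw]; group))
  have hac : (orderOf (n * a * n⁻¹)).Coprime p := by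
    have e : orderOf (n * a * n⁻¹) = orderOf a :=
      (SemiconjBy.conj_mk n a).orderOf_eq.symm
    rw [e]
    exact coprime_orderOf_of_mem (kernel_coprime hh Q hqp hQ) ha
  have hK := mem_kernel hh Q hqp hQ haM hac
  have hne : n * a * n⁻¹ ≠ 1 := fun h => ha1 (conj_eq_one_iff.mp h)
  refine hnM (Subgroup.mem_sup_right ?_)
  have key : ∀ x ∈ (Q : Subgroup G), n * x * n⁻¹ ∈ (Q : Subgroup G) := by
    intro x hx
    have hxM : n * x * n⁻¹ ∈ big Q := centralizer_le_of_mem_kernel hh Q hqp hQ hK hne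
      (Subgroup.mem_centralizer_singleton_iff.mpr (by
        calc n * x * n⁻¹ * (n * a * n⁻¹) = n * (x * a) * n⁻¹ := by group
          _ = n * (a * x) * n⁻¹ := by
            rw [kernel_commute hh Q hqp hQ (sylow_le_kernel hh Q hqp hQ hx) ha]
          _ = _ := by group))
    obtain ⟨j, hj⟩ := Q.2 ⟨x, hx⟩
    have hpow : (n * x * n⁻¹) ^ q ^ j = 1 := by
      rw [conj_pow, show x ^ q ^ j = 1 from congrArg Subtype.val hj, mul_one, mul_inv_cancel]
    refine mem_sylow_of_commute Q ⟨j, hpow⟩ fun y hy => kernel_commute hh Q hqp hQ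
      (mem_kernel hh Q hqp hQ hxM (Nat.Coprime.coprime_dvd_left (orderOf_dvd_of_pow_eq_one hpow)
        (((Nat.coprime_primes hq.out hp.out).mpr hqp).pow_left j)))
      (sylow_le_kernel hh Q hqp hQ hy)
  rw [Subgroup.mem_normalizer_iff_map_conj_eq]
  refine Subgroup.eq_of_le_of_card_ge ?_ ?_
  · rintro _ ⟨x, hx, rfl⟩
    exact key x hx
  · rw [Subgroup.card_map_of_injective (MulAut.conj n).injective]

end Big

/-- The `p'`-elements centralizing `x` inject into the Sylow subgroups containing `x`. -/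
theorem exists_injection {x : G} (hx : ∃ j : ℕ, x ^ p ^ j = 1) (hx1 : x ≠ 1) :
    ∃ Φ : {y : G // (orderOf y).Coprime p ∧ x * y = y * x} →
      {P : Sylow p G // x ∈ (P : Subgroup G)}, Function.Injective Φ := by
  obtain ⟨j, hj⟩ := hx
  obtain ⟨k, -, hk⟩ := (Nat.dvd_prime_pow hp.out).mp (orderOf_dvd_of_pow_eq_one hj)
  have hxp : IsPGroup p (Subgroup.zpowers x) := IsPGroup.of_card (n := k) (by rw [Nat.card_zpowers, hk])
  by_cases h : ∀ y : G, (orderOf y).Coprime p → x * y = y * x → y = 1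
  · obtain ⟨P, hP⟩ := hxp.exists_le_sylow
    exact ⟨fun _ => ⟨P, hP (Subgroup.mem_zpowers x)⟩, fun a b _ =>
      Subtype.ext ((h a a.2.1 a.2.2).trans (h b b.2.1 b.2.2).symm)⟩
  push Not at h
  obtain ⟨y, hy, hxy, hy1⟩ := h
  obtain ⟨q, hq, Q, hqp, hQ, -, i, hi1, hiQ⟩ := exists_prime_sylow hh hy hy1
  set a := y ^ i
  have hxa : x * a = a * x := (show Commute x y from hxy).pow_right i
  have ha : a ∈ kernel p Q := sylow_le_kernel hh Q hqp hQ hiQ
  have hxM : x ∈ big Q := centralizer_le_of_mem_kernel hh Q hqp hQ ha hi1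
    (Subgroup.mem_centralizer_singleton_iff.mpr hxa)
  obtain ⟨PM, hPM⟩ := (IsPGroup.of_card (n := k)
    (by rw [Nat.card_zpowers, Subgroup.orderOf_mk, hk]) :
      IsPGroup p (Subgroup.zpowers (⟨x, hxM⟩ : big Q))).exists_le_sylow
  set R := (PM : Subgroup (big Q)).map (big Q).subtype with hRdef
  have hxR : x ∈ R := Subgroup.mem_map_of_mem (big Q).subtype (hPM (Subgroup.mem_zpowers _))
  obtain ⟨z, hz, hz1, hcz, hzf⟩ := exists_fpf hh Q hqp hQ PM
  have hCM : Subgroup.centralizer ({x} : Set G) ≤ big Q :=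
    (centralizer_le_or hh Q hqp hQ hx1 ha hi1 hxa).resolve_right fun h => hi1 (hzf a ha (by
      obtain ⟨l, hl⟩ := (PM.2.map (big Q).subtype) ⟨z, hz⟩
      exact h z (Subgroup.map_subtype_le _ hz) ⟨l, congrArg Subtype.val hl⟩ (hcz x hxR).symm))
  obtain ⟨P, hP⟩ := (PM.2.map (big Q).subtype : IsPGroup p R).exists_le_sylow
  refine ⟨fun t => ⟨(t : G) • P, ?_⟩, fun t t' htt => ?_⟩
  · refine Transfer.mem_smul_sylow.mpr ?_
    have e : (t : G)⁻¹ * x * t = x := by rw [mul_assoc, t.2.2, inv_mul_cancel_left]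
    rw [e]
    exact hP hxR
  have hK : ∀ t : {y : G // (orderOf y).Coprime p ∧ x * y = y * x}, (t : G) ∈ kernel p Q := fun t =>
    mem_kernel hh Q hqp hQ (hCM (Subgroup.mem_centralizer_singleton_iff.mpr t.2.2.symm)) t.2.1
  set u := (t : G)⁻¹ * t' with hu
  have huK : u ∈ kernel p Q := mul_mem (inv_mem (hK t)) (hK t')
  have huP : u • P = P := by
    have h1 : (t : G) • P = (t' : G) • P := congrArg Subtype.val htt
    rw [hu, mul_smul, ← h1, ← mul_smul, inv_mul_cancel, one_smul]
  have hu1 : u = 1 := by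
    refine eq_one_of_commute_sylow hh Q hqp hQ PM huK fun e he => ?_
    have h1 : u * e * u⁻¹ ∈ (P : Subgroup G) := by
      have h0 : u * e * u⁻¹ ∈ ((u • P : Sylow p G) : Subgroup G) :=
        Transfer.mem_smul_sylow.mpr (by simpa [mul_assoc] using hP he)
      rwa [huP] at h0
    have h2 : u * e * u⁻¹ * e⁻¹ ∈ (P : Subgroup G) := mul_mem h1 (inv_mem (hP he))
    have h3 : u * e * u⁻¹ * e⁻¹ ∈ kernel p Q := by
      rw [show u * e * u⁻¹ * e⁻¹ = u * (e * u⁻¹ * e⁻¹) by group]
      exact mul_mem huK ((Subgroup.mem_normalizer_iff.mp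
        (le_normalizer_core (big Q) (Subgroup.map_subtype_le _ he)) _).mp (inv_mem huK))
    obtain ⟨l, hl⟩ := P.2 ⟨_, h2⟩
    have h4 : u * e * u⁻¹ * e⁻¹ = 1 := eq_one_of_orders (j := l) (congrArg Subtype.val hl)
      (coprime_orderOf_of_mem (kernel_coprime hh Q hqp hQ) h3)
    rw [mul_inv_eq_one, mul_inv_eq_iff_eq_mul] at h4
    exact h4.symm
  exact Subtype.ext (inv_mul_eq_one.mp hu1)

/-- There are few elements of order prime to `p`. -/
theorem card_coprime_le :
    p * Nat.card {y : G // (orderOf y).Coprime p} ≤ p + (p - 1).primeFactors.card * Nat.card G := by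
  classical
  set s := (p - 1).primeFactors
  have hs : ∀ q ∈ s, Fact q.Prime := fun q hq => ⟨Nat.prime_of_mem_primeFactors hq⟩
  have hsp : ∀ q ∈ s, q ≠ p := fun q hq h => by
    have := Nat.le_of_dvd (by have := hp.out.two_le; omega) (Nat.dvd_of_mem_primeFactors hq)
    have := hp.out.two_le
    omega
  let K : ∀ q : s, Subgroup G := fun q =>
    haveI := hs q q.2
    if (default : Sylow (q : ℕ) G).toSubgroup = ⊥ then ⊥ else kernel p (default : Sylow (q : ℕ) G)
  let M : ∀ q : s, Subgroup G := fun q =>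
    haveI := hs q q.2
    if (default : Sylow (q : ℕ) G).toSubgroup = ⊥ then ⊤ else big (default : Sylow (q : ℕ) G)
  have hKM : ∀ q : s, p * ((M q).index * Nat.card (K q) - 1) ≤ Nat.card G := fun q => by
    haveI := hs q q.2
    simp only [K, M]
    split_ifs with h
    · rw [Subgroup.index_top, Subgroup.card_bot, one_mul, Nat.sub_self, mul_zero]
      exact Nat.zero_le _
    · calc p * ((big (default : Sylow (q : ℕ) G)).index * Nat.card (kernel p (default : Sylow (q : ℕ) G)) - 1)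
          ≤ p * ((big (default : Sylow (q : ℕ) G)).index *
              Nat.card (kernel p (default : Sylow (q : ℕ) G))) :=
            Nat.mul_le_mul_left p (Nat.sub_le _ _)
        _ = (big (default : Sylow (q : ℕ) G)).index *
              (p * Nat.card (kernel p (default : Sylow (q : ℕ) G))) := by ring
        _ ≤ (big (default : Sylow (q : ℕ) G)).index * Nat.card (big (default : Sylow (q : ℕ) G)) :=
            Nat.mul_le_mul_left _ (mul_card_kernel_le hh _ (hsp q q.2) h)
        _ = Nat.card G := Subgroup.index_mul_card _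
  have cover : ∀ y : G, (orderOf y).Coprime p → y ≠ 1 →
      ∃ q : s, ∃ c : G ⧸ M q, ∃ a : K q, a ≠ 1 ∧ c.out * (a : G) * c.out⁻¹ = y := by
    intro y hy hy1
    obtain ⟨q, hq, Q, hqp, hQ, hqd, i, hi1, hiQ⟩ := exists_prime_sylow hh hy hy1
    have hqs : q ∈ s := Nat.mem_primeFactors.mpr
      ⟨hq.out, hqd, by have := hp.out.two_le; omega⟩
    refine ⟨⟨q, hqs⟩, ?_⟩
    set D : Sylow q G := default with hD
    obtain ⟨g, hg⟩ := MulAction.exists_smul_eq G Q D
    have hD0 : (D : Subgroup G) ≠ ⊥ := fun h => hQ (Subgroup.card_eq_one.mp (by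
      rw [Q.card_eq_multiplicity, ← D.card_eq_multiplicity, h, Subgroup.card_bot]))
    have hKe : K ⟨q, hqs⟩ = kernel p D := by simp only [K]; exact if_neg hD0
    have hMe : M ⟨q, hqs⟩ = big D := by simp only [M]; exact if_neg hD0
    set y' := g * y * g⁻¹ with hy'
    have hyD : y' ^ i ∈ (D : Subgroup G) := by
      rw [← hg, hy', conj_pow]
      refine Transfer.mem_smul_sylow.mpr ?_
      simpa [mul_assoc] using hiQ
    have hy'1 : y' ^ i ≠ 1 := by
      rw [hy', conj_pow]; exact fun h => hi1 (conj_eq_one_iff.mp h)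
    have hy'K : y' ∈ kernel p D := by
      refine mem_kernel hh D hqp hD0 (centralizer_le_big D hh hqp hD0 hyD hy'1
        (Subgroup.mem_centralizer_singleton_iff.mpr ((Commute.refl y').pow_right i))) ?_
      rwa [← (SemiconjBy.conj_mk g y).orderOf_eq]
    set c : G ⧸ M ⟨q, hqs⟩ := QuotientGroup.mk g⁻¹
    have hm : (c.out)⁻¹ * g⁻¹ ∈ big D := by
      rw [← hMe]
      exact QuotientGroup.eq.mp (QuotientGroup.out_eq' c)
    set m := (c.out)⁻¹ * g⁻¹ with hmdef
    have hconj : m * y' * m⁻¹ ∈ kernel p D :=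
      (Subgroup.mem_normalizer_iff.mp (le_normalizer_core (big D) hm) y').mp hy'K
    refine ⟨c, ⟨m * y' * m⁻¹, hKe.symm ▸ hconj⟩, fun h => hy1 ?_, ?_⟩
    · have h1 : m * y' * m⁻¹ = 1 := congrArg Subtype.val h
      rw [conj_eq_one_iff, hy', conj_eq_one_iff] at h1
      exact h1
    · show c.out * (m * y' * m⁻¹) * c.out⁻¹ = y
      rw [hmdef, hy']
      group
  -- count
  let T := fun q : s => (G ⧸ M q) × {a : K q // a ≠ 1}
  have h1 : Nat.card {y : G // (orderOf y).Coprime p} ≤ 1 + ∑ q : s, Nat.card (T q) := by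
    rw [← Nat.card_sigma, ← Nat.card_unique (α := Unit), ← Nat.card_sum]
    have hc : ∀ y : {y : G // (orderOf y).Coprime p}, (y : G) ≠ 1 →
        ∃ v : (q : s) × T q, v.2.1.out * (v.2.2.1 : G) * v.2.1.out⁻¹ = (y : G) := fun y hy => by
      obtain ⟨q, c, a, ha, he⟩ := cover y y.2 hy
      exact ⟨⟨q, c, a, ha⟩, he⟩
    refine Nat.card_le_card_of_injective
      (fun y => if h : (y : G) = 1 then Sum.inl () else Sum.inr (hc y h).choose) fun y y' he => ?_
    simp only at he
    split_ifs at he with h h' h'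
    · exact Subtype.ext (h.trans h'.symm)
    · refine Subtype.ext ?_
      rw [← (hc y h).choose_spec, ← (hc y' h').choose_spec, Sum.inr.inj he]
  have h2 : ∀ q : s, p * Nat.card (T q) ≤ Nat.card G := fun q => by
    refine le_trans (Nat.mul_le_mul_left p ?_) (hKM q)
    have hpos := Nat.card_pos (α := K q)
    have e : Nat.card {a : K q // a ≠ 1} + 1 = Nat.card (K q) := by
      haveI := Fintype.ofFinite (K q)
      rw [Nat.card_eq_fintype_card, Nat.card_eq_fintype_card, Fintype.card_subtype_compl,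
        Fintype.card_subtype_eq, Nat.sub_add_cancel Fintype.card_pos]
    rw [Nat.card_prod, ← Subgroup.index]
    have hidx : 1 ≤ (M q).index := Nat.pos_of_ne_zero Subgroup.index_ne_zero_of_finite
    rw [← e, Nat.mul_add, mul_one]
    omega
  calc p * Nat.card {y : G // (orderOf y).Coprime p} ≤ p * (1 + ∑ q : s, Nat.card (T q)) :=
        Nat.mul_le_mul_left p h1
    _ = p + ∑ q : s, p * Nat.card (T q) := by rw [mul_add, mul_one, Finset.mul_sum]
    _ ≤ p + ∑ _q : s, Nat.card G := Nat.add_le_add_left (Finset.sum_le_sum fun q _ => h2 q) p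
    _ = _ := by simp

/-- The final contradiction. -/
theorem no_hyp : False := by
  classical
  have h5 := hh.five_le
  set s := (p - 1).primeFactors
  have hk : 2 * s.card < p := by
    have h1 : 2 ^ s.card ≤ p - 1 := le_trans
      (Finset.pow_card_le_prod s (fun q => q) 2 fun q hq => (Nat.prime_of_mem_primeFactors hq).two_le)
      (Nat.le_of_dvd (by omega) (Nat.prod_primeFactors_dvd _))
    have h2 : ∀ k : ℕ, 2 * k ≤ 2 ^ k := by
      intro k
      induction k with
      | zero => simp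
      | succ k ih => rw [pow_succ]; have := Nat.one_le_two_pow (n := k); omega
    have := h2 s.card
    omega
  obtain ⟨P⟩ := (inferInstance : Nonempty (Sylow p G))
  have hP0 : (P : Subgroup G) ≠ ⊥ := by
    intro h
    -- otherwise `G` is a `p'`-group, hence abelian
    refine hh.ne_top_of_isSolvable (H := (⊤ : Subgroup G)) ?_ rfl
    have hc : (Nat.card (⊤ : Subgroup G)).Coprime p := by
      rw [Subgroup.card_top]
      refine (hp.out.coprime_iff_not_dvd.mpr fun hd => ?_).symm
      exact P.ne_bot_of_dvd_card hd h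
    exact Group.isSolvable_of_comm fun a b => (hh.ab ⊤ hc).1.is_comm.comm a b
  obtain ⟨-, -, hne, -⟩ := normalizer_sylow hh P hP0
  have hN2 : 2 * Nat.card (P : Subgroup G) ≤
      Nat.card (Subgroup.normalizer ((P : Subgroup G) : Set G)) := by
    obtain ⟨c, hc⟩ := Subgroup.card_dvd_of_le
      (Subgroup.le_normalizer (H := (P : Subgroup G)))
    have hc0 : c ≠ 0 := by
      intro h
      rw [h, mul_zero] at hc
      exact Nat.card_pos.ne' hc
    have hc1 : c ≠ 1 := by
      rintro rfl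
      exact hne (Subgroup.eq_of_le_of_card_ge Subgroup.le_normalizer (by rw [hc, mul_one])).symm
    rw [hc, mul_comm 2]
    exact Nat.mul_le_mul_left _ (by omega)
  set n := Nat.card (Sylow p G)
  have hnN : n * Nat.card (Subgroup.normalizer ((P : Subgroup G) : Set G)) = Nat.card G := by
    simp only [n]
    rw [P.card_eq_index_normalizer]
    exact Subgroup.index_mul_card _
  -- pairs of a Sylow subgroup and a non-trivial element of it
  let V := (S : Sylow p G) × {x : (S : Subgroup G) // x ≠ 1}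
  have hV : Nat.card V + n = n * Nat.card (P : Subgroup G) := by
    haveI := Fintype.ofFinite (Sylow p G)
    rw [Nat.card_sigma]
    simp only [n, Nat.card_eq_fintype_card (α := Sylow p G), ← Finset.card_univ,
      Finset.card_eq_sum_ones, Finset.sum_mul, ← Finset.sum_add_distrib, one_mul]
    refine Finset.sum_congr rfl fun S _ => ?_
    haveI := Fintype.ofFinite (S : Subgroup G)
    rw [P.card_eq_multiplicity, ← S.card_eq_multiplicity, Nat.card_eq_fintype_card,
      Nat.card_eq_fintype_card, Fintype.card_subtype_compl, Fintype.card_subtype_eq,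
      Nat.sub_add_cancel Fintype.card_pos]
  have hsplit : Nat.card G ≤ Nat.card {y : G // (orderOf y).Coprime p} + Nat.card V := by
    rw [← Nat.card_sum]
    choose X Y hXY hXz hYz hXp hYc using fun g : G => exists_split hp.out g
    have hXj : ∀ g, ∃ j : ℕ, X g ^ p ^ j = 1 := fun g => by
      obtain ⟨k, hk⟩ := hXp g
      exact ⟨k, by rw [← hk, pow_orderOf_eq_one]⟩
    have hcomm : ∀ g, X g * Y g = Y g * X g := fun g => by
      obtain ⟨i, hi⟩ := Subgroup.mem_zpowers_iff.mp (hXz g)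
      obtain ⟨j, hj⟩ := Subgroup.mem_zpowers_iff.mp (hYz g)
      rw [← hi, ← hj]
      exact ((Commute.refl g).zpow_zpow i j).eq
    have hinj : ∀ x : G, ∃ Φ : {y : G // (orderOf y).Coprime p ∧ x * y = y * x} → Sylow p G,
        ((∃ j : ℕ, x ^ p ^ j = 1) → x ≠ 1 → Function.Injective Φ ∧ ∀ y, x ∈ (Φ y : Subgroup G)) := by
      intro x
      by_cases hx : (∃ j : ℕ, x ^ p ^ j = 1) ∧ x ≠ 1
      · obtain ⟨Φ, hΦ⟩ := exists_injection hh hx.1 hx.2
        exact ⟨fun y => (Φ y).1, fun _ _ => ⟨Subtype.val_injective.comp hΦ, fun y => (Φ y).2⟩⟩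
      · exact ⟨fun _ => P, fun h h' => absurd ⟨h, h'⟩ hx⟩
    choose Φ hΦ using hinj
    refine Nat.card_le_card_of_injective (fun g => if h : X g = 1
      then Sum.inl ⟨g, by rw [hXY g, h, one_mul]; exact hYc g⟩
      else Sum.inr (⟨Φ (X g) ⟨Y g, hYc g, hcomm g⟩,
        ⟨⟨X g, (hΦ (X g) (hXj g) h).2 _⟩, fun e => h (congrArg Subtype.val e)⟩⟩ : V)) fun g g' he => ?_
    simp only at he
    split_ifs at he with h h' h'
    · exact congrArg Subtype.val (Sum.inl.inj he)
    · have he' := Sum.inr.inj he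
      have hX : X g = X g' := congrArg (fun v : V => ((v.2.1 : (v.1 : Subgroup G)) : G)) he'
      have hP' := congrArg Sigma.fst he'
      simp only at hP'
      have key : ∀ (x x' : G) (y : {y : G // (orderOf y).Coprime p ∧ x * y = y * x})
          (y' : {y : G // (orderOf y).Coprime p ∧ x' * y = y * x'}), x = x' →
          (∃ j : ℕ, x ^ p ^ j = 1) → x ≠ 1 → Φ x y = Φ x' y' → (y : G) = y' := by
        rintro x x' y y' rfl h1 h2 h3
        exact congrArg Subtype.val ((hΦ x h1 h2).1 h3)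
      have hYY : Y g = Y g' := key (X g) (X g') ⟨Y g, hYc g, hcomm g⟩ ⟨Y g', hYc g', hcomm g'⟩ hX (hXj g) h hP'
      rw [hXY g, hXY g', hYY, hX]
  have h3 := card_coprime_le hh
  have hn1 : 1 ≤ n := Nat.card_pos
  have h4 : 2 * (n * Nat.card (P : Subgroup G)) ≤ Nat.card G := by
    calc 2 * (n * Nat.card (P : Subgroup G)) = n * (2 * Nat.card (P : Subgroup G)) := by ring
      _ ≤ n * Nat.card (Subgroup.normalizer ((P : Subgroup G) : Set G)) :=
          Nat.mul_le_mul_left n hN2
      _ = Nat.card G := hnN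
  have hG : 0 < Nat.card G := Nat.card_pos
  nlinarith [Nat.mul_le_mul_left p hsplit, Nat.mul_le_mul_left p h4, Nat.mul_le_mul_left p hn1,
    Nat.mul_le_mul_right (Nat.card G) (Nat.succ_le_of_lt hk), h3, hV]

end CfsgLib.PPrimeAbelian
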