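import Cfsg.Agent.Lib.PPrimeAbelian.Setup
import Cfsg.Agent.Lib.PSolvable.Core
import Cfsg.Agent.Lib.Fitting.Basic

/-!
# The hypothesis on `p'`-subgroups in sections
-/

set_option autoImplicit false
set_option linter.style.haveILetI false
set_option linter.unusedSectionVars false

namespace CfsgLib.PPrimeAbelian

/-- Every subgroup of order prime to `p` is abelian of exponent dividing `p - 1`. -/
def Pab (G : Type*) [Group G] (p : ℕ) : Prop :=
  ∀ H : Subgroup G, (Nat.card ↥H).Coprime p → IsMulCommutative ↥H ∧ ∀ x ∈ H, x ^ (p - 1) = 1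

variable {G : Type*} [Group G] {p : ℕ}

theorem Pab.map {T : Type*} [Group T] (f : G →* T)
    (hlift : ∀ U : Subgroup T, (Nat.card ↥U).Coprime p →
      ∃ H : Subgroup G, (Nat.card ↥H).Coprime p ∧ H.map f = U) (h : Pab G p) : Pab T p := by
  intro U hU
  obtain ⟨H, hH, rfl⟩ := hlift U hU
  obtain ⟨h1, h2⟩ := h H hH
  refine ⟨⟨⟨?_⟩⟩, ?_⟩
  · rintro ⟨_, a, ha, rfl⟩ ⟨_, b, hb, rfl⟩
    refine Subtype.ext (show f a * f b = f b * f a from ?_)
    rw [← map_mul, ← map_mul,
      show a * b = b * a from congrArg Subtype.val (h1.is_comm.comm (⟨a, ha⟩ : H) ⟨b, hb⟩)]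
  · rintro _ ⟨a, ha, rfl⟩
    rw [← map_pow, h2 a ha, map_one]

theorem Pab.subgroup (h : Pab G p) (L : Subgroup G) : Pab L p := by
  intro U hU
  obtain ⟨h1, h2⟩ := h (U.map L.subtype) (by rwa [Subgroup.card_map_of_injective L.subtype_injective])
  refine ⟨⟨⟨fun a b => Subtype.ext (L.subtype_injective ?_)⟩⟩, fun x hx => Subtype.ext ?_⟩
  · rw [Subgroup.coe_mul, Subgroup.coe_mul, map_mul, map_mul]
    exact congrArg Subtype.val (h1.is_comm.comm
      (⟨_, Subgroup.mem_map_of_mem L.subtype a.2⟩ : U.map L.subtype)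
      ⟨_, Subgroup.mem_map_of_mem L.subtype b.2⟩)
  · exact h2 _ (Subgroup.mem_map_of_mem L.subtype hx)

/-- The hypothesis passes to quotients by `p`-groups and by `p'`-groups. -/
theorem Pab.quotient [Finite G] (h : Pab G p) [hp : Fact p.Prime] (N : Subgroup G) [N.Normal]
    (hN : IsPGroup p N ∨ (Nat.card N).Coprime p) : Pab (G ⧸ N) p := by
  refine Pab.map (QuotientGroup.mk' N) (fun U hU => ?_) h
  set f := QuotientGroup.mk' N
  have hf : Function.Surjective f := QuotientGroup.mk'_surjective N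
  have hcard : Nat.card (U.comap f) = Nat.card N * Nat.card U := by
    rw [PSolvable.card_comap_of_surjective hf, QuotientGroup.ker_mk']
  rcases hN with hN | hN
  swap
  · exact ⟨U.comap f, hcard ▸ hN.mul_left hU, Subgroup.map_comap_eq_self_of_surjective hf U⟩
  set K := U.comap f
  have hNK : N ≤ K := fun x hx => by
    show f x ∈ U
    rw [show f x = 1 from (QuotientGroup.eq_one_iff x).mpr hx]
    exact one_mem U
  have hNc : Nat.card (N.subgroupOf K) = Nat.card N :=
    Nat.card_congr (Subgroup.subgroupOfEquivOfLe hNK).toEquiv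
  have hidx : (N.subgroupOf K).index = Nat.card U := by
    have h1 := (N.subgroupOf K).card_mul_index
    rw [hNc, hcard] at h1
    exact Nat.eq_of_mul_eq_mul_left Nat.card_pos h1
  obtain ⟨k, hk⟩ := IsPGroup.iff_card.mp hN
  obtain ⟨H, hH⟩ := Subgroup.exists_right_complement'_of_coprime (N := N.subgroupOf K)
    (by rw [hNc, hidx, hk]; exact (hU.symm.pow_left k))
  refine ⟨H.map K.subtype, ?_, ?_⟩
  · rw [Subgroup.card_map_of_injective K.subtype_injective]
    have h2 := hH.card_mul
    rw [hNc, hcard] at h2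
    rw [Nat.eq_of_mul_eq_mul_left Nat.card_pos h2]
    exact hU
  · refine le_antisymm ?_ fun u hu => ?_
    · rintro _ ⟨_, ⟨x, -, rfl⟩, rfl⟩
      exact x.2
    · obtain ⟨x, rfl⟩ := hf u
      obtain ⟨⟨n, hh⟩, he⟩ := hH.surjective (⟨x, hu⟩ : K)
      refine ⟨K.subtype hh, Subgroup.mem_map_of_mem _ hh.2, ?_⟩
      have hx : x = (n : K) * (hh : K) := by
        have := congrArg Subtype.val he
        exact this.symm
      rw [hx, map_mul, (show f ((n : K) : G) = 1 from (QuotientGroup.eq_one_iff _).mpr n.2), one_mul]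
      rfl

/-- In a solvable group with trivial `O_p`, all `p'`-elements lie in the abelian `O_{p'}`. -/
theorem mem_pPrimeCore_of_pCore_eq_bot {T : Type*} [Group T] [Finite T] [hp : Fact p.Prime]
    (hsol : Group.IsSolvable T) (h : Pab T p) (hO : Cfsg.pCore p T = ⊥) {y : T}
    (hy : (orderOf y).Coprime p) : y ∈ Cfsg.pPrimeCore p T := by
  haveI := hsol
  haveI := Transfer.pPrimeCore_normal p T
  set B := Cfsg.pPrimeCore p T
  have hF : (Nat.card (Cfsg.fittingSubgroup T)).Coprime p := by
    refine (hp.out.coprime_iff_not_dvd.mpr fun hd => ?_).symm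
    haveI := Fitting.fittingSubgroup_isNilpotent (G := T)
    haveI : (Cfsg.fittingSubgroup T).Normal := Fitting.fittingSubgroup_normal
    obtain ⟨S⟩ := (inferInstance : Nonempty (Sylow p (Cfsg.fittingSubgroup T)))
    haveI : (S : Subgroup (Cfsg.fittingSubgroup T)).Normal :=
      Sylow.normal_of_normalizerCondition Group.normalizerCondition_of_isNilpotent S
    haveI := Sylow.characteristic_of_normal S inferInstance
    have h1 : (S : Subgroup (Cfsg.fittingSubgroup T)).map (Cfsg.fittingSubgroup T).subtype ≤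
        Cfsg.pCore p T :=
      Fitting.le_pCore (PSolvable.normal_map_of_characteristic _ _) (S.2.map _)
    rw [hO, le_bot_iff, Subgroup.map_eq_bot_iff_of_injective _
      (Subgroup.subtype_injective _)] at h1
    exact S.ne_bot_of_dvd_card hd h1
  have hFB : Cfsg.fittingSubgroup T ≤ B := Transfer.le_pPrimeCore Fitting.fittingSubgroup_normal hF
  refine hFB (PSolvable.centralizer_fittingSubgroup_le (Subgroup.mem_centralizer_iff.mpr
    fun z hz => ?_))
  have hc := (h (B ⊔ Subgroup.zpowers y) (Transfer.coprime_card_sup_of_normal inferInstance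
    (Transfer.pPrimeCore_coprime p) (by rwa [Nat.card_zpowers]))).1
  exact congrArg Subtype.val (hc.is_comm.comm
    (⟨z, Subgroup.mem_sup_left (hFB hz)⟩ : ↥(B ⊔ Subgroup.zpowers y))
    ⟨y, Subgroup.mem_sup_right (Subgroup.mem_zpowers y)⟩)

end CfsgLib.PPrimeAbelian
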