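import Cfsg.Agent.Lib.PPrimeAbelian.Signal
import Cfsg.Agent.Lib.PPrimeAbelian.Quot
import Cfsg.Agent.Lib.Transfer.AbelianSylow
import Cfsg.Agent.Lib.Hall.Basic
import Cfsg.Agent.S0118

/-!
# Maximal subgroups

A maximal subgroup with trivial `O_{p'}` is the normalizer of a Sylow `p`-subgroup containing its
derived subgroup. For `q ≠ p`, `kernel Q = O_{p'}(big Q)` is abelian, contains every `p'`-element
of `big Q`, and `big Q` is the only maximal subgroup above the centralizer of any of its elements.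
-/

set_option autoImplicit false
set_option linter.style.haveILetI false
set_option linter.unusedSectionVars false

namespace CfsgLib.PPrimeAbelian

open scoped commutatorElement

variable {G : Type*} [Group G] [Finite G] {p : ℕ}

/-- The abelian normal `p'`-subgroup of `big Q`. -/
def kernel (p : ℕ) {q : ℕ} [Fact q.Prime] (Q : Sylow q G) : Subgroup G := core p (big Q)

/-- A `q`-element commuting with a Sylow `q`-subgroup lies in it. -/
theorem mem_sylow_of_commute {q : ℕ} [Fact q.Prime] (Q : Sylow q G) {x : G}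
    (hx : ∃ k : ℕ, x ^ q ^ k = 1) (hc : ∀ y ∈ (Q : Subgroup G), x * y = y * x) :
    x ∈ (Q : Subgroup G) := by
  obtain ⟨k, hk⟩ := hx
  obtain ⟨i, -, hi⟩ := (Nat.dvd_prime_pow Fact.out).mp (orderOf_dvd_of_pow_eq_one hk)
  have hle : Subgroup.zpowers x ≤ Subgroup.normalizer ((Q : Subgroup G) : Set G) := by
    refine Subgroup.zpowers_le.mpr (Subgroup.centralizer_le_normalizer _ ?_)
    exact Subgroup.mem_centralizer_iff.mpr fun y hy => (hc y hy).symm
  have hp : IsPGroup q ↥((Q : Subgroup G) ⊔ Subgroup.zpowers x) := by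
    have hz : IsPGroup q (Subgroup.zpowers x) := IsPGroup.of_card (n := i) (by rw [Nat.card_zpowers, hi])
    rw [sup_comm]
    exact hz.to_sup_of_normal_right' Q.2 hle
  rw [← Q.3 hp le_sup_left]
  exact Subgroup.mem_sup_right (Subgroup.mem_zpowers x)

variable [hp : Fact p.Prime] (hh : Hyp G p)

include hh

theorem not_involves_sl2 :
    ¬ Cfsg.Involves (Matrix.SpecialLinearGroup (Fin 2) (ZMod p)) G := by
  rintro ⟨K, R, hR, ⟨e⟩⟩
  have h5 := hh.five_le
  by_cases hK : K = ⊤
  swap
  · haveI := hh.proper K hK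
    exact not_isSolvable_sl2 h5 (Group.isSolvable_of_surjective
      (f := e.toMonoidHom.comp (QuotientGroup.mk' (R.subgroupOf K)))
      (e.surjective.comp (QuotientGroup.mk'_surjective _)))
  subst hK
  haveI := hh.simple
  haveI : IsSimpleGroup (⊤ : Subgroup G) := IsSimpleGroup.isSimpleGroup_of_surjective
    (Subgroup.topEquiv (G := G)).symm.toMonoidHom (Subgroup.topEquiv (G := G)).symm.surjective
  rcases hR.eq_bot_or_eq_top with h | h
  · let e' : G ≃* Matrix.SpecialLinearGroup (Fin 2) (ZMod p) :=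
      (Subgroup.topEquiv.symm.trans ((QuotientGroup.quotientBot).symm.trans
        (QuotientGroup.quotientMulEquivOfEq h.symm))).trans e
    have h2 : (2 : ZMod p) ≠ 0 := by
      intro h0
      have h' : ((2 : ℕ) : ZMod p) = 0 := by exact_mod_cast h0
      rw [ZMod.natCast_eq_zero_iff] at h'
      have := Nat.le_of_dvd (by norm_num) h'
      omega
    have hc : e'.symm (-1) ∈ Subgroup.center G := Subgroup.mem_center_iff.mpr fun g => by
      refine e'.injective ?_
      rw [map_mul, map_mul, e'.apply_symm_apply]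
      exact Subgroup.mem_center_iff.mp SL2.neg_one_mem_center (e' g)
    rw [hh.center_eq_bot, Subgroup.mem_bot] at hc
    refine SL2.neg_one_ne_one h2 ?_
    rw [← e'.apply_symm_apply (-1), hc, map_one]
  · refine not_isSolvable_sl2 h5 (Group.isSolvable_of_comm fun a b => ?_)
    haveI : Subsingleton ((⊤ : Subgroup G) ⧸ R.subgroupOf ⊤) :=
      QuotientGroup.subsingleton_iff.mpr h
    exact e.symm.injective (Subsingleton.elim _ _)

theorem not_involves_qd : ¬ Cfsg.Involves ↥(Cfsg.qd p) G := fun h =>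
  not_involves_sl2 hh (Qd.involves_sl2_of_involves_qd h)

/-- A proper subgroup over `P` and `N(ZJ(P))` has derived subgroup containing `P`. -/
theorem le_commutator_of_control (P : Sylow p G) {L : Subgroup G} (hPL : (P : Subgroup G) ≤ L)
    (hN : Subgroup.normalizer (ZJ.zJ p (P : Subgroup G) : Set G) ≤ L) :
    (P : Subgroup G) ≤ ⁅L, L⁆ := by
  have h := Transfer.commutator_inf_sylow_eq_of_controls P hPL fun x hx g hg => by
    obtain ⟨n, hn, he⟩ := Cfsg.Agent.S0118.result hh.ne_two (not_involves_sl2 hh) P {x}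
      (Set.singleton_subset_iff.mpr hx) g⁻¹ (by
        rintro _ ⟨a, rfl, rfl⟩
        show g⁻¹⁻¹ * _ * g⁻¹ ∈ (P : Set G)
        rw [inv_inv]
        exact hg)
    rw [ZJ.centerThompsonOf_eq] at hn
    refine ⟨n⁻¹, L.inv_mem (hN hn), ?_⟩
    have h1 := he x rfl
    rw [inv_inv] at h1 ⊢
    exact h1
  rw [hh.commutator_eq_top, top_inf_eq] at h
  exact h.le.trans inf_le_left

/-- Sections of such a subgroup by `p'`-kernels are `p`-closed with abelian quotient. -/
theorem commutator_le_pCore_of_control (P : Sylow p G) {L : Subgroup G} (hL : L ≠ ⊤)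
    (hPL : (P : Subgroup G) ≤ L)
    (hN : Subgroup.normalizer (ZJ.zJ p (P : Subgroup G) : Set G) ≤ L)
    {T : Type*} [Group T] (f : L →* T) (hf : Function.Surjective f) (hT : Pab T p) :
    commutator T ≤ Cfsg.pCore p T := by
  haveI : Finite T := Finite.of_surjective f hf
  haveI := Fitting.pCore_normal (G := T) p
  set R := Cfsg.pCore p T
  have hT1 : Pab (T ⧸ R) p := hT.quotient R (Or.inl (Fitting.pCore_isPGroup p))
  have hsol : Group.IsSolvable (T ⧸ R) := by
    haveI := hh.proper L hL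
    exact Group.isSolvable_of_surjective (f := (QuotientGroup.mk' R).comp f)
      ((QuotientGroup.mk'_surjective R).comp hf)
  have hO : Cfsg.pCore p (T ⧸ R) = ⊥ := by
    haveI := Fitting.pCore_normal (G := T ⧸ R) p
    have hle : (Cfsg.pCore p (T ⧸ R)).comap (QuotientGroup.mk' R) ≤ R :=
      Fitting.le_pCore inferInstance ((Fitting.pCore_isPGroup p).comap_of_ker_isPGroup _
        (by rw [QuotientGroup.ker_mk']; exact Fitting.pCore_isPGroup p))
    rw [eq_bot_iff, ← Subgroup.map_comap_eq_self_of_surjective (QuotientGroup.mk'_surjective R)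
      (Cfsg.pCore p (T ⧸ R))]
    refine (Subgroup.map_mono hle).trans (le_of_eq ?_)
    rw [Subgroup.map_eq_bot_iff, QuotientGroup.ker_mk']
  haveI := Transfer.pPrimeCore_normal p (T ⧸ R)
  set B := Cfsg.pPrimeCore p (T ⧸ R)
  -- the quotient by `B` is a `p`-group, hence trivial
  let g : L →* (T ⧸ R) ⧸ B := (QuotientGroup.mk' B).comp ((QuotientGroup.mk' R).comp f)
  have hg : Function.Surjective g :=
    (QuotientGroup.mk'_surjective B).comp ((QuotientGroup.mk'_surjective R).comp hf)
  have hU : IsPGroup p ((T ⧸ R) ⧸ B) := by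
    intro u
    obtain ⟨t, rfl⟩ := QuotientGroup.mk'_surjective B u
    obtain ⟨a, b, hab, -, -, ⟨k, hk⟩, hb⟩ := exists_split hp.out t
    refine ⟨k, ?_⟩
    rw [hab, map_mul, (show QuotientGroup.mk' B b = 1 from (QuotientGroup.eq_one_iff b).mpr
      (mem_pPrimeCore_of_pCore_eq_bot hsol hT1 hO hb)), mul_one, ← map_pow, ← hk,
      pow_orderOf_eq_one, map_one]
  have htop : (⊤ : Subgroup ((T ⧸ R) ⧸ B)) = ⊥ := by
    haveI := hU.isNilpotent
    haveI : Group.IsNilpotent (⊤ : Subgroup ((T ⧸ R) ⧸ B)) := (hU.to_subgroup ⊤).isNilpotent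
    refine Transfer.eq_bot_of_le_commutator_self ?_
    have hPtop : ((P.subtype hPL : Sylow p L) : Subgroup L).map g = ⊤ := by
      have h1 := ((P.subtype hPL).mapSurjective hg).3 (hU.to_subgroup ⊤) le_top
      exact h1.symm
    have hPc : ((P.subtype hPL : Sylow p L) : Subgroup L) ≤ commutator L := fun x hx => by
      have h1 : (x : G) ∈ ⁅L, L⁆ := le_commutator_of_control hh P hPL hN hx
      rw [← Subgroup.map_subtype_commutator] at h1
      obtain ⟨y, hy, hxy⟩ := h1
      rwa [L.subtype_injective hxy] at hy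
    rw [← hPtop]
    refine (Subgroup.map_mono hPc).trans ?_
    rw [commutator_def, Subgroup.map_commutator, hPtop]
    exact Subgroup.commutator_mono le_top le_top
  have hBtop : ∀ t : T ⧸ R, t ∈ B := fun t => by
    rw [← QuotientGroup.eq_one_iff, ← Subgroup.mem_bot, ← htop]
    exact Subgroup.mem_top _
  have hab := (hT1 B (Transfer.pPrimeCore_coprime p)).1
  rw [commutator_def, Subgroup.commutator_le]
  intro a _ b _
  rw [← QuotientGroup.eq_one_iff]
  show QuotientGroup.mk' R ⁅a, b⁆ = 1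
  rw [map_commutatorElement, commutatorElement_eq_one_iff_mul_comm]
  exact congrArg Subtype.val (hab.is_comm.comm (⟨_, hBtop (QuotientGroup.mk' R a)⟩ : B)
    ⟨_, hBtop (QuotientGroup.mk' R b)⟩)

/-- A maximal subgroup equals the normalizer of any of its non-trivial normal subgroups. -/
theorem normalizer_eq_of_coatom {L K : Subgroup G} (hL : IsCoatom L) (hK : K ≠ ⊥) (hKL : K ≤ L)
    (hLN : L ≤ Subgroup.normalizer (K : Set G)) : Subgroup.normalizer (K : Set G) = L :=
  (hL.le_iff.mp hLN).resolve_left (hh.normalizer_ne_top hK fun h => hL.1 (top_le_iff.mp (h ▸ hKL)))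

/-- A `p`-subgroup that is Sylow in an overgroup of its normalizer is Sylow in `G`. -/
theorem exists_sylow_eq {M : Subgroup G} (PM : Sylow p M)
    (hN : Subgroup.normalizer (((PM : Subgroup M).map M.subtype : Subgroup G) : Set G) ≤ M) :
    ∃ P : Sylow p G, (P : Subgroup G) = (PM : Subgroup M).map M.subtype := by
  set R := (PM : Subgroup M).map M.subtype
  obtain ⟨P, hP⟩ := (PM.2.map M.subtype : IsPGroup p R).exists_le_sylow
  refine ⟨P, (hP.eq_of_not_lt fun hlt => ?_).symm⟩
  have h1 := Transfer.lt_inf_normalizer P.2 hlt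
  set U := (P : Subgroup G) ⊓ Subgroup.normalizer (R : Set G)
  have hUM : U ≤ M := inf_le_right.trans hN
  have h2 : U.subgroupOf M = (PM : Subgroup M) := by
    refine PM.3 ?_ fun x hx => h1.le (Subgroup.mem_map_of_mem M.subtype hx)
    exact (P.2.to_le (inf_le_left : U ≤ _)).comap_of_injective M.subtype M.subtype_injective
  refine h1.ne (le_antisymm h1.le fun x hx => ?_)
  have h3 : (⟨x, hUM hx⟩ : M) ∈ (PM : Subgroup M) :=
    h2 ▸ (show (⟨x, hUM hx⟩ : M) ∈ U.subgroupOf M from hx)
  exact Subgroup.mem_map_of_mem M.subtype h3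

/-- A maximal subgroup with trivial `O_{p'}` is the normalizer of a Sylow `p`-subgroup. -/
theorem exists_sylow_of_core_eq_bot {L : Subgroup G} (hL : IsCoatom L) (hL0 : L ≠ ⊥)
    (hc : core p L = ⊥) :
    ∃ P : Sylow p G, L = Subgroup.normalizer ((P : Subgroup G) : Set G) ∧
      ⁅L, L⁆ ≤ (P : Subgroup G) := by
  have hO : Cfsg.pPrimeCore p L = ⊥ :=
    (Subgroup.map_eq_bot_iff_of_injective _ L.subtype_injective).mp hc
  obtain ⟨PL⟩ := (inferInstance : Nonempty (Sylow p L))
  have hsol := hh.proper L hL.1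
  haveI := hsol
  have hcl := PSolvable.centralizer_pCore_le
    (PSolvable.isPSolvable_of_isSolvable (p := p) (G := L) inferInstance) hO
  have hPL0 : (PL : Subgroup L) ≠ ⊥ := by
    intro h0
    refine hL0 ?_
    have h1 : (⊤ : Subgroup L) ≤ Cfsg.pPrimeCore p L := by
      refine Transfer.le_pPrimeCore inferInstance ?_
      rw [Subgroup.card_top]
      refine (hp.out.coprime_iff_not_dvd.mpr fun hd => ?_).symm
      exact PL.ne_bot_of_dvd_card hd h0
    rw [hO, top_le_iff] at h1
    rw [← L.range_subtype, MonoidHom.range_eq_map, ← h1, Subgroup.map_bot]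
  haveI := ZJ.zJ_characteristic hh.ne_two (Or.inr rfl) PL hcl (Qd.stableAt_of_qdFree hh.ne_two
    (Qd.not_involves_subgroup L (not_involves_qd hh)) _)
  set R := (PL : Subgroup L).map L.subtype with hR
  have hZ : (ZJ.zJ p (PL : Subgroup L)).map L.subtype = ZJ.zJ p R :=
    ZJ.map_zJ p L.subtype L.subtype_injective.injOn
  have hZ0 : ZJ.zJ p R ≠ ⊥ := by
    intro h0
    obtain ⟨z, hz, hz1, -⟩ := ZJ.zJ_ne_bot (p := p) (e := p) (Or.inr rfl) (PL.2.map L.subtype)
      (fun h => hPL0 ((Subgroup.map_eq_bot_iff_of_injective _ L.subtype_injective).mp h))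
    exact hz1 (Subgroup.mem_bot.mp (h0 ▸ hz))
  have hNZ : Subgroup.normalizer (ZJ.zJ p R : Set G) = L := by
    refine normalizer_eq_of_coatom hh hL hZ0 (hZ ▸ Subgroup.map_subtype_le _) ?_
    have h1 := Subgroup.le_normalizer_map (H := ZJ.zJ p (PL : Subgroup L)) L.subtype
    rwa [Subgroup.normalizer_eq_top_iff.mpr inferInstance, ← MonoidHom.range_eq_map,
      Subgroup.range_subtype, hZ] at h1
  obtain ⟨P, hP⟩ := exists_sylow_eq hh PL ((ZJ.normalizer_le_normalizer_zJ p R).trans hNZ.le)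
  have hcom := commutator_le_pCore_of_control hh P hL.1 (hP ▸ Subgroup.map_subtype_le _)
    (by rw [hP]; exact hNZ.le) (MonoidHom.id L) (fun x => ⟨x, rfl⟩) (Pab.subgroup hh.ab L)
  have hle : Cfsg.pCore p L ≤ (PL : Subgroup L) := by
    rw [Fitting.pCore_eq_iInf_sylow]
    exact iInf_le _ PL
  have hcomP : ⁅L, L⁆ ≤ (P : Subgroup G) := by
    rw [← Subgroup.map_subtype_commutator, hP]
    exact Subgroup.map_mono (hcom.trans hle)
  refine ⟨P, ?_, hcomP⟩
  have hPLe : (P : Subgroup G) ≤ L := hP ▸ Subgroup.map_subtype_le _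
  refine (normalizer_eq_of_coatom hh hL ?_ hPLe ?_).symm
  · rw [hP]
    exact fun h => hPL0 ((Subgroup.map_eq_bot_iff_of_injective _ L.subtype_injective).mp h)
  · have key : ∀ g ∈ L, ∀ x ∈ (P : Subgroup G), g * x * g⁻¹ ∈ (P : Subgroup G) := fun g hg x hx => by
      rw [show g * x * g⁻¹ = ⁅g, x⁆ * x by rw [commutatorElement_def]; group]
      exact mul_mem (hcomP (Subgroup.commutator_mem_commutator hg (hPLe hx))) hx
    refine fun g hg => Subgroup.mem_normalizer_iff.mpr fun x => ⟨key g hg x, fun hx => ?_⟩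
    simpa [mul_assoc] using key g⁻¹ (inv_mem hg) _ hx

/-- A Hall `p'`-subgroup of a proper subgroup above a given `p'`-subgroup. -/
theorem exists_hall_ge {L K : Subgroup G} (hL : L ≠ ⊤) (hK : K ≤ L)
    (hKc : (Nat.card K).Coprime p) :
    ∃ H : Subgroup G, K ≤ H ∧ H ≤ L ∧ (Nat.card H).Coprime p ∧
      ∀ q : ℕ, q.Prime → q ≠ p → (Nat.card H).factorization q = (Nat.card L).factorization q := by
  haveI := hh.proper L hL
  have hc : (Nat.card L / p ^ (Nat.card L).factorization p).Coprime p :=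
    (Nat.coprime_ordCompl hp.out Nat.card_pos.ne').symm
  obtain ⟨H, hH, hKH⟩ := Hall.exists_hall_ge (G := L)
    (m := Nat.card L / p ^ (Nat.card L).factorization p) (n := p ^ (Nat.card L).factorization p)
    (Nat.div_mul_cancel (Nat.ordProj_dvd _ _)).symm (hc.pow_right _) (K := K.subgroupOf L)
    (by rw [Nat.card_congr (Subgroup.subgroupOfEquivOfLe hK).toEquiv]; exact hKc.pow_right _)
  have hcard : Nat.card (H.map L.subtype) = Nat.card L / p ^ (Nat.card L).factorization p := by
    rw [Subgroup.card_map_of_injective L.subtype_injective, hH]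
  refine ⟨H.map L.subtype, fun x hx => ⟨⟨x, hK hx⟩, hKH hx, rfl⟩, Subgroup.map_subtype_le _,
    hcard ▸ hc, fun q _ hqp => ?_⟩
  rw [hcard, Nat.factorization_ordCompl, Finsupp.erase_ne hqp]

section Big

variable {q : ℕ} [hq : Fact q.Prime] (Q : Sylow q G) (hqp : q ≠ p) (hQ : (Q : Subgroup G) ≠ ⊥)

include hqp hQ

theorem isCoatom_big : IsCoatom (big Q) := by
  refine ⟨big_ne_top Q hh hqp hQ, fun b hb => ?_⟩
  by_contra hbt
  exact hb.not_ge (le_big Q hh hqp hQ hbt ((sylow_le_big Q).trans hb.le))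

theorem big_eq_of_le {r : ℕ} [Fact r.Prime] (R : Sylow r G) (hrp : r ≠ p)
    (hR : (R : Subgroup G) ≠ ⊥) (h : (R : Subgroup G) ≤ big Q) : big R = big Q :=
  ((isCoatom_big hh Q hqp hQ).le_iff.mp
    (le_big R hh hrp hR (big_ne_top Q hh hqp hQ) h)).resolve_left (big_ne_top R hh hrp hR)

theorem kernel_le_big : kernel p Q ≤ big Q := core_le _

theorem kernel_coprime : (Nat.card (kernel p Q)).Coprime p := core_coprime _

theorem kernel_commute {x y : G} (hx : x ∈ kernel p Q) (hy : y ∈ kernel p Q) : x * y = y * x :=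
  congrArg Subtype.val ((hh.ab _ (kernel_coprime hh Q hqp hQ)).1.is_comm.comm
    (⟨x, hx⟩ : kernel p Q) ⟨y, hy⟩)

theorem sylow_le_commutator_big : (Q : Subgroup G) ≤ ⁅big Q, big Q⁆ := by
  have h := Transfer.commutator_inf_sylow_eq_normalizer Q (sylow_comm Q hh hqp)
  rw [hh.commutator_eq_top, top_inf_eq] at h
  exact (h.le.trans inf_le_left).trans (Subgroup.commutator_mono le_sup_right le_sup_right)

theorem sylow_le_kernel : (Q : Subgroup G) ≤ kernel p Q := by
  set M := big Q with hM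
  have hMtop : M ≠ ⊤ := big_ne_top Q hh hqp hQ
  haveI hFn := Transfer.pPrimeCore_normal p M
  set F := Cfsg.pPrimeCore p M
  set f := QuotientGroup.mk' F
  have hf : Function.Surjective f := QuotientGroup.mk'_surjective F
  have hFc : (Nat.card f.ker).Coprime p := by
    rw [QuotientGroup.ker_mk']; exact Transfer.pPrimeCore_coprime p
  -- it is enough that the quotient is `p`-closed with abelian quotient
  have key : commutator (M ⧸ F) ≤ Cfsg.pCore p (M ⧸ F) → (Q : Subgroup G) ≤ kernel p Q := by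
    intro hcom x hx
    have h1 := sylow_le_commutator_big hh Q hqp hQ hx
    rw [← hM, ← Subgroup.map_subtype_commutator] at h1
    obtain ⟨y, hy, rfl⟩ := h1
    have h2 : f y ∈ Cfsg.pCore p (M ⧸ F) := by
      refine hcom ?_
      have h3 := Subgroup.mem_map_of_mem f hy
      rw [commutator_def, Subgroup.map_commutator] at h3
      exact Subgroup.commutator_mono le_top le_top h3
    obtain ⟨j, hj⟩ := Q.2 ⟨_, hx⟩
    have hj' : y ^ q ^ j = 1 := M.subtype_injective (by rw [map_pow, map_one]; exact congrArg Subtype.val hj)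
    obtain ⟨i, hi⟩ := Fitting.pCore_isPGroup p ⟨f y, h2⟩
    have h4 : orderOf (f y) ∣ Nat.gcd (q ^ j) (p ^ i) := Nat.dvd_gcd
      (orderOf_dvd_of_pow_eq_one (by rw [← map_pow, hj', map_one]))
      (orderOf_dvd_of_pow_eq_one (congrArg Subtype.val hi))
    rw [(((Nat.coprime_primes hq.out hp.out).mpr hqp).pow j i).gcd_eq_one, Nat.dvd_one,
      orderOf_eq_one_iff] at h4
    exact ⟨y, (QuotientGroup.eq_one_iff y).mp h4, rfl⟩
  by_contra hQF
  obtain ⟨PM⟩ := (inferInstance : Nonempty (Sylow p M))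
  have hsol := hh.proper M hMtop
  haveI := hsol
  have hcl : Subgroup.centralizer (Cfsg.pCore p (M ⧸ F) : Set (M ⧸ F)) ≤ Cfsg.pCore p (M ⧸ F) :=
    centralizer_core_le hsol
  haveI hch := ZJ.zJ_characteristic hh.ne_two (Or.inr rfl) (PM.mapSurjective hf) hcl
    (Qd.stableAt_of_qdFree hh.ne_two (Qd.not_involves_quotient _
      (Qd.not_involves_subgroup M (not_involves_qd hh))) _)
  have hinj : Set.InjOn f ((PM : Subgroup M) : Set M) := by
    intro a ha b hb hab
    have h1 : a⁻¹ * b ∈ f.ker := by rw [MonoidHom.mem_ker, map_mul, map_inv, hab, inv_mul_cancel]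
    have h2 := PSolvable.eq_one_of_mem_of_mem PM.2 hFc (mul_mem (inv_mem ha) hb) h1
    exact inv_mul_eq_one.mp h2
  set Z := ZJ.zJ p (PM : Subgroup M) with hZdef
  have hZp : IsPGroup p Z := PM.2.to_le (ZJ.zJ_le p _)
  have hcover : ∀ x : M, ∃ n ∈ Subgroup.normalizer (Z : Set M), f n = f x := by
    intro x
    refine PSolvable.exists_mem_normalizer_of_map hFc hZp ?_
    rw [hZdef, ZJ.map_zJ p f hinj]
    have e : Subgroup.normalizer (ZJ.zJ p ((PM : Subgroup M).map f) : Set (M ⧸ F)) = ⊤ :=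
      Subgroup.normalizer_eq_top_iff.mpr
        (inferInstance : (ZJ.zJ p ((PM.mapSurjective hf : Sylow p (M ⧸ F)) : Subgroup (M ⧸ F))).Normal)
    rw [e]
    exact Subgroup.mem_top _
  set R := (PM : Subgroup M).map M.subtype
  have hZmap : Z.map M.subtype = ZJ.zJ p R := ZJ.map_zJ p M.subtype M.subtype_injective.injOn
  have hPM0 : (PM : Subgroup M) ≠ ⊥ := by
    intro h0
    obtain ⟨n, hn, ⟨k, hk⟩, x, hx, hnx⟩ := hh.exists_p_element hqp Q hQ
    have hnM : n ∈ M := Subgroup.mem_sup_right hn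
    obtain ⟨PM', hPM'⟩ := (IsPGroup.of_card (n := k)
      (by rw [Nat.card_zpowers, Subgroup.orderOf_mk, hk]) :
        IsPGroup p (Subgroup.zpowers (⟨n, hnM⟩ : M))).exists_le_sylow
    have hcard : Nat.card (PM' : Subgroup M) = 1 := by
      rw [PM'.card_eq_multiplicity, ← PM.card_eq_multiplicity, h0, Subgroup.card_bot]
    have h2 := hPM' (Subgroup.mem_zpowers _)
    rw [Subgroup.card_eq_one.mp hcard, Subgroup.mem_bot] at h2
    have h3 : n = 1 := congrArg Subtype.val h2
    exact hnx (by rw [h3, one_mul, mul_one])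
  have hZ0 : ZJ.zJ p R ≠ ⊥ := by
    intro h0
    obtain ⟨z, hz, hz1, -⟩ := ZJ.zJ_ne_bot (p := p) (e := p) (Or.inr rfl) (PM.2.map M.subtype)
      (fun h => hPM0 ((Subgroup.map_eq_bot_iff_of_injective _ M.subtype_injective).mp h))
    exact hz1 (Subgroup.mem_bot.mp (h0 ▸ hz))
  have hZtop : ZJ.zJ p R ≠ ⊤ := fun h => hMtop (top_le_iff.mp
    (h ▸ (hZmap ▸ Subgroup.map_subtype_le Z)))
  obtain ⟨L, hL, hNL⟩ := (eq_top_or_exists_le_coatom
    (Subgroup.normalizer (ZJ.zJ p R : Set G))).resolve_left (hh.normalizer_ne_top hZ0 hZtop)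
  have hNML : ∀ n ∈ Subgroup.normalizer (Z : Set M), (n : G) ∈ L := fun n hn => by
    refine hNL ?_
    rw [← hZmap]
    exact Subgroup.le_normalizer_map _ (Subgroup.mem_map_of_mem M.subtype hn)
  have hLM : L = M → False := by
    intro e
    subst e
    obtain ⟨P, hP⟩ := exists_sylow_eq hh PM ((ZJ.normalizer_le_normalizer_zJ p R).trans hNL)
    exact hQF (key (commutator_le_pCore_of_control hh P hMtop (hP ▸ Subgroup.map_subtype_le _)
      (by rw [hP]; exact hNL) f hf ((Pab.subgroup hh.ab M).quotient F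
        (Or.inr (Transfer.pPrimeCore_coprime p)))))
  by_cases hcL : core p L = ⊥
  · have hL0 : L ≠ ⊥ := fun h => hZ0 (le_bot_iff.mp (h ▸ Subgroup.le_normalizer.trans hNL))
    obtain ⟨P, -, hcomP⟩ := exists_sylow_of_core_eq_bot hh hL hL0 hcL
    refine hQF (key ?_)
    have hmap : (Subgroup.normalizer (Z : Set M)).map f = ⊤ := by
      refine eq_top_iff.mpr fun u _ => ?_
      obtain ⟨x, rfl⟩ := hf u
      obtain ⟨n, hn, he⟩ := hcover x
      exact ⟨n, hn, he⟩
    rw [commutator_def, ← hmap, ← Subgroup.map_commutator]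
    set C := ⁅Subgroup.normalizer (Z : Set M), Subgroup.normalizer (Z : Set M)⁆
    have hCP : IsPGroup p C := by
      have hle : C.map M.subtype ≤ (P : Subgroup G) := by
        rw [Subgroup.map_commutator]
        refine (Subgroup.commutator_mono ?_ ?_).trans hcomP <;>
          exact Subgroup.map_le_iff_le_comap.mpr fun n hn => hNML n hn
      exact (P.2.to_le hle).of_equiv (Subgroup.equivMapOfInjective C M.subtype M.subtype_injective).symm
    refine Fitting.le_pCore ?_ (hCP.map f)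
    rw [Subgroup.map_commutator, hmap]
    infer_instance
  -- a maximal subgroup of the other type equals `M`
  refine hLM ?_
  obtain ⟨x, hx, hxF⟩ := SetLike.not_le_iff_exists.mp hQF
  have hxM : x ∈ M := sylow_le_big Q hx
  obtain ⟨n, hn, hfn⟩ := hcover ⟨x, hxM⟩
  obtain ⟨a, b, hab, ha, hb, ⟨i, hi⟩, hbc⟩ := exists_split hq.out n
  have hfb : f b = 1 := by
    obtain ⟨j, hj⟩ := Q.2 ⟨x, hx⟩
    have h1 : f n ^ q ^ j = 1 := by
      rw [hfn, ← map_pow, show (⟨x, hxM⟩ : M) ^ q ^ j = 1 from Subtype.ext (congrArg Subtype.val hj :),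
        map_one]
    obtain ⟨z, hz⟩ := Subgroup.mem_zpowers_iff.mp hb
    have h2 : f b ^ q ^ j = 1 := by
      rw [← hz, map_zpow, ← zpow_natCast, ← zpow_mul, mul_comm, zpow_mul, zpow_natCast, h1, one_zpow]
    have h3 : orderOf (f b) ∣ Nat.gcd (orderOf b) (q ^ j) :=
      Nat.dvd_gcd (orderOf_map_dvd f b) (orderOf_dvd_of_pow_eq_one h2)
    rwa [(hbc.pow_right j).gcd_eq_one, Nat.dvd_one, orderOf_eq_one_iff] at h3
  have ha1 : (a : G) ≠ 1 := by
    intro h0
    have h0' : a = 1 := M.subtype_injective h0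
    refine hxF ⟨⟨x, hxM⟩, (QuotientGroup.eq_one_iff _).mp ?_, rfl⟩
    show f ⟨x, hxM⟩ = 1
    rw [← hfn, hab, map_mul, h0', map_one, one_mul, hfb]
  have haL : (a : G) ∈ L := hNML a (Subgroup.zpowers_le.mpr hn ha)
  obtain ⟨R', hR'⟩ := (IsPGroup.of_card (n := i) (by rw [Nat.card_zpowers, hi]) :
    IsPGroup q (Subgroup.zpowers a)).exists_le_sylow
  -- `R'` is a Sylow subgroup of `G`
  have hcardQ : (Nat.card M).factorization q = (Nat.card G).factorization q := by
    refine le_antisymm ?_ ?_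
    · exact Nat.factorization_le_iff_dvd Nat.card_pos.ne' Nat.card_pos.ne' |>.mpr
        (Subgroup.card_subgroup_dvd_card M) q
    · have h1 : q ^ (Nat.card G).factorization q ∣ Nat.card M := by
        rw [← Q.card_eq_multiplicity]
        exact Subgroup.card_dvd_of_le (sylow_le_big Q)
      exact (hq.out.pow_dvd_iff_le_factorization Nat.card_pos.ne').mp h1
  let S : Sylow q G := Sylow.ofCard ((R' : Subgroup M).map M.subtype)
    (by rw [Subgroup.card_map_of_injective M.subtype_injective, R'.card_eq_multiplicity, hcardQ])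
  have hSco : (S : Subgroup G) = (R' : Subgroup M).map M.subtype := rfl
  have haS : (a : G) ∈ (S : Subgroup G) := by
    rw [hSco]; exact Subgroup.mem_map_of_mem M.subtype (hR' (Subgroup.mem_zpowers a))
  have hS0 : (S : Subgroup G) ≠ ⊥ := fun h => ha1 (Subgroup.mem_bot.mp (h ▸ haS))
  have hCa : Subgroup.centralizer ({(a : G)} : Set G) ≤ M :=
    (centralizer_le_big S hh hqp hS0 haS ha1).trans
      (big_eq_of_le hh Q hqp hQ S hqp hS0 (hSco ▸ Subgroup.map_subtype_le _)).le
  have hKc : (Nat.card (core p L ⊔ Subgroup.zpowers (a : G) : Subgroup G)).Coprime p := by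
    refine coprime_card_sup (Subgroup.zpowers_le.mpr (le_normalizer_core L haL)) (core_coprime L) ?_
    rw [Nat.card_zpowers, Subgroup.orderOf_coe, hi]
    exact ((Nat.coprime_primes hq.out hp.out).mpr hqp).pow_left i
  obtain ⟨A, hKA, hAL, hAc, -⟩ := exists_hall_ge hh hL.1
    (sup_le (core_le L) (Subgroup.zpowers_le.mpr haL)) hKc
  have hAab := (hh.ab A hAc).1
  have hAM : A ≤ M := fun y hy => hCa (Subgroup.mem_centralizer_singleton_iff.mpr
    (congrArg Subtype.val (hAab.is_comm.comm (⟨y, hy⟩ : A)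
      ⟨a, hKA (Subgroup.mem_sup_right (Subgroup.mem_zpowers _))⟩)))
  obtain ⟨A', hAA', hA'M, hA'c, hA'f⟩ := exists_hall_ge hh hMtop hAM hAc
  have hA'L : A' ≤ L := by
    rw [← normalizer_eq_of_coatom hh hL hcL (core_le L) (le_normalizer_core L)]
    intro y hy
    refine Subgroup.centralizer_le_normalizer _ (Subgroup.mem_centralizer_iff.mpr fun z hz => ?_)
    exact congrArg Subtype.val ((hh.ab A' hA'c).1.is_comm.comm
      (⟨z, hAA' (hKA (Subgroup.mem_sup_left hz))⟩ : A') ⟨y, hy⟩)
  obtain ⟨U⟩ := (inferInstance : Nonempty (Sylow q A'))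
  let S' : Sylow q G := Sylow.ofCard ((U : Subgroup A').map A'.subtype)
    (by rw [Subgroup.card_map_of_injective A'.subtype_injective, U.card_eq_multiplicity,
      hA'f q hq.out hqp, hcardQ])
  have hS'co : (S' : Subgroup G) = (U : Subgroup A').map A'.subtype := rfl
  have hS'0 : (S' : Subgroup G) ≠ ⊥ := fun h => hQ (Subgroup.card_eq_one.mp (by
    rw [Q.card_eq_multiplicity, ← S'.card_eq_multiplicity, h, Subgroup.card_bot]))
  have hS'A : (S' : Subgroup G) ≤ A' := hS'co ▸ Subgroup.map_subtype_le _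
  have hLle : L ≤ M := (le_big S' hh hqp hS'0 hL.1 (hS'A.trans hA'L)).trans
    (big_eq_of_le hh Q hqp hQ S' hqp hS'0 (hS'A.trans hA'M)).le
  exact ((hL.le_iff.mp hLle).resolve_left hMtop).symm

theorem sylow_normal_big : big Q ≤ Subgroup.normalizer ((Q : Subgroup G) : Set G) := by
  have key : ∀ m ∈ big Q, ∀ x ∈ (Q : Subgroup G), m * x * m⁻¹ ∈ (Q : Subgroup G) := by
    intro m hm x hx
    have hA : m * x * m⁻¹ ∈ kernel p Q := (Subgroup.mem_normalizer_iff.mp
      (le_normalizer_core (big Q) hm) x).mp (sylow_le_kernel hh Q hqp hQ hx)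
    obtain ⟨j, hj⟩ := Q.2 ⟨x, hx⟩
    refine mem_sylow_of_commute Q ⟨j, ?_⟩ fun y hy =>
      kernel_commute hh Q hqp hQ hA (sylow_le_kernel hh Q hqp hQ hy)
    rw [conj_pow, show x ^ q ^ j = 1 from congrArg Subtype.val hj, mul_one, mul_inv_cancel]
  intro m hm
  refine Subgroup.mem_normalizer_iff.mpr fun x => ⟨key m hm x, fun hx => ?_⟩
  simpa [mul_assoc] using key m⁻¹ (inv_mem hm) _ hx

/-- Every `p'`-element of `big Q` lies in `kernel Q`. -/
theorem mem_kernel {y : G} (hy : y ∈ big Q) (hyc : (orderOf y).Coprime p) : y ∈ kernel p Q := by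
  set M := big Q with hM
  haveI := Transfer.pPrimeCore_normal p M
  set F := Cfsg.pPrimeCore p M
  suffices h : ∀ r : ℕ, r.Prime → r ≠ p → ¬ r ∣ F.index by
    refine ⟨⟨y, hy⟩, (QuotientGroup.eq_one_iff _).mp (orderOf_eq_one_iff.mp ?_), rfl⟩
    by_contra hne
    obtain ⟨r, hr, hrd⟩ := Nat.exists_prime_and_dvd hne
    have hr1 : r ∣ orderOf y := by
      have h2 := hrd.trans (orderOf_map_dvd (QuotientGroup.mk' F) (⟨y, hy⟩ : M))
      rwa [Subgroup.orderOf_mk] at h2
    refine h r hr ?_ (hrd.trans (by rw [Subgroup.index]; exact orderOf_dvd_natCard _))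
    rintro rfl
    exact hp.out.ne_one (Nat.eq_one_of_dvd_coprimes hyc hr1 (dvd_refl _))
  intro r hr hrp hd
  haveI := Fact.mk hr
  obtain ⟨U⟩ := (inferInstance : Nonempty (Sylow r M))
  set U' := (U : Subgroup M).map M.subtype
  have hdM : r ∣ Nat.card M := hd.trans (Subgroup.index_dvd_card F)
  have hU0 : U' ≠ ⊥ := fun h => U.ne_bot_of_dvd_card hdM
    ((Subgroup.map_eq_bot_iff_of_injective _ M.subtype_injective).mp h)
  obtain ⟨S, hS⟩ := (U.2.map M.subtype : IsPGroup r U').exists_le_sylow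
  have hS0 : (S : Subgroup G) ≠ ⊥ := fun h => hU0 (le_bot_iff.mp (h ▸ hS))
  obtain ⟨u, hu, hu1⟩ := (Subgroup.bot_or_exists_ne_one U').resolve_left hU0
  have hucop : (orderOf u).Coprime p := by
    obtain ⟨j, hj⟩ := (U.2.map M.subtype) ⟨u, hu⟩
    exact Nat.Coprime.coprime_dvd_left (orderOf_dvd_of_pow_eq_one (congrArg Subtype.val hj :))
      (((Nat.coprime_primes hr hp.out).mpr hrp).pow_left j)
  have hQu : (Q : Subgroup G) ≤ Subgroup.centralizer ({u} : Set G) := fun z hz =>
    Subgroup.mem_centralizer_singleton_iff.mpr (hh.commute_of_normalizes (sylow_coprime hqp Q)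
      (sylow_normal_big hh Q hqp hQ (Subgroup.map_subtype_le _ hu)) hucop hz).symm
  have hSM : (S : Subgroup G) ≤ M := (sylow_le_centralizer S hh hrp (hS hu)).trans
    (le_big Q hh hqp hQ (hh.centralizer_ne_top hu1) hQu)
  have hSK : (S : Subgroup G) ≤ kernel p S := sylow_le_kernel hh S hrp hS0
  have hbig : big S = M := big_eq_of_le hh Q hqp hQ S hrp hS0 hSM
  rw [kernel, hbig] at hSK
  have hSF : Nat.card (S : Subgroup G) ∣ Nat.card F := by
    refine (Subgroup.card_dvd_of_le hSK).trans ?_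
    rw [core, Subgroup.card_map_of_injective M.subtype_injective]
  have h1 : r ^ ((Nat.card F).factorization r + 1) ∣ Nat.card G := by
    rw [pow_succ]
    refine (Nat.mul_dvd_mul (Nat.ordProj_dvd _ _) hd).trans ?_
    rw [F.card_mul_index]
    exact Subgroup.card_subgroup_dvd_card M
  rw [hr.pow_dvd_iff_le_factorization Nat.card_pos.ne'] at h1
  rw [S.card_eq_multiplicity, hr.pow_dvd_iff_le_factorization Nat.card_pos.ne'] at hSF
  omega

theorem centralizer_le_of_mem_kernel {a : G} (ha : a ∈ kernel p Q) (ha1 : a ≠ 1) :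
    Subgroup.centralizer ({a} : Set G) ≤ big Q :=
  le_big Q hh hqp hQ (hh.centralizer_ne_top ha1) fun _ hz =>
    Subgroup.mem_centralizer_singleton_iff.mpr
      (kernel_commute hh Q hqp hQ (sylow_le_kernel hh Q hqp hQ hz) ha)

/-- An element of `kernel Q` commuting with all `p`-elements of `big Q` is trivial. -/
theorem eq_one_of_commute {a : G} (ha : a ∈ kernel p Q)
    (hc : ∀ n ∈ big Q, (∃ k : ℕ, orderOf n = p ^ k) → n * a = a * n) : a = 1 := by
  by_contra ha1
  obtain ⟨r, hr, hrd⟩ := Nat.exists_prime_and_dvd (mt orderOf_eq_one_iff.mp ha1)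
  haveI := Fact.mk hr
  have hrp : r ≠ p := by
    rintro rfl
    exact hp.out.ne_one (Nat.eq_one_of_dvd_coprimes (kernel_coprime hh Q hqp hQ)
      (hrd.trans ((Subgroup.orderOf_coe (⟨a, ha⟩ : kernel r Q)) ▸ orderOf_dvd_natCard _))
      (dvd_refl _))
  set a' := a ^ (orderOf a / r) with ha'
  have hord : orderOf a' = r := orderOf_pow_orderOf_div (orderOf_pos a).ne' hrd
  obtain ⟨S, hS⟩ := (IsPGroup.of_card (n := 1) (by rw [Nat.card_zpowers, hord, pow_one]) :
    IsPGroup r (Subgroup.zpowers a')).exists_le_sylow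
  have haS : a' ∈ (S : Subgroup G) := hS (Subgroup.mem_zpowers a')
  have ha'1 : a' ≠ 1 := fun h => hr.one_lt.ne (by rw [← hord, h, orderOf_one])
  have hS0 : (S : Subgroup G) ≠ ⊥ := fun h => ha'1 (Subgroup.mem_bot.mp (h ▸ haS))
  have hSM : (S : Subgroup G) ≤ big Q := (sylow_le_centralizer S hh hrp haS).trans
    (centralizer_le_of_mem_kernel hh Q hqp hQ (pow_mem ha _) ha'1)
  have hbig : big S = big Q := big_eq_of_le hh Q hqp hQ S hrp hS0 hSM
  refine ha'1 (Transfer.eq_one_of_abelian_sylow S (sylow_comm S hh hrp) haS (fun n hn => ?_)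
    (by rw [hh.commutator_eq_top]; exact Subgroup.mem_top _))
  have hnM : n ∈ big Q := hbig ▸ Subgroup.mem_sup_right hn
  obtain ⟨c, d, hcd, hcz, hdz, hck, hdc⟩ := exists_split hp.out n
  have h1 : Commute c a :=
    hc c (Subgroup.zpowers_le.mpr hnM hcz) hck
  have h2 : Commute d a := kernel_commute hh Q hqp hQ
    (mem_kernel hh Q hqp hQ (Subgroup.zpowers_le.mpr hnM hdz) hdc) ha
  rw [hcd]
  exact ((h1.pow_right _).mul_left (h2.pow_right _)).eq

end Big

end CfsgLib.PPrimeAbelian
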