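import Cfsg.Agent.Lib.PPrimeAbelian.Setup
import Cfsg.Agent.Lib.Signalizer.Solvable
import Cfsg.Agent.Lib.Coprime.Generation

/-!
# The maximal subgroup over a Sylow `q`-subgroup

For `q ≠ p` the Sylow `q`-subgroup `Q` has rank at least three, `a ↦ O_{q'}(C(a))` is a solvable
signalizer functor on its elements of order `q`, and `big Q = cover Q ⊔ N(Q)` is a proper subgroup
containing every proper overgroup of `Q`.
-/

set_option autoImplicit false
set_option linter.style.haveILetI false
set_option linter.unusedSectionVars false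

namespace CfsgLib.PPrimeAbelian

variable {G : Type*} [Group G] [Finite G] {p q : ℕ}

/-- `O_{q'}(L)` inside the ambient group. -/
def core (q : ℕ) (L : Subgroup G) : Subgroup G := (Cfsg.pPrimeCore q L).map L.subtype

theorem core_le (L : Subgroup G) : core q L ≤ L := Subgroup.map_subtype_le _

theorem core_coprime (L : Subgroup G) : (Nat.card (core q L)).Coprime q := by
  rw [core, Subgroup.card_map_of_injective L.subtype_injective]
  exact Transfer.pPrimeCore_coprime q

theorem le_normalizer_core (L : Subgroup G) : L ≤ Subgroup.normalizer (core q L : Set G) := by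
  haveI := Transfer.pPrimeCore_normal q L
  have h := Subgroup.le_normalizer_map (H := Cfsg.pPrimeCore q L) L.subtype
  rwa [Subgroup.normalizer_eq_top_iff.mpr inferInstance, ← MonoidHom.range_eq_map,
    Subgroup.range_subtype] at h

variable [hq : Fact q.Prime]

theorem le_core_of_normalized {L X : Subgroup G} (hL : Group.IsSolvable L) (Q : Sylow q G)
    (hQ : IsMulCommutative (Q : Subgroup G)) (hQL : (Q : Subgroup G) ≤ L) (hXL : X ≤ L)
    (hX : (Nat.card X).Coprime q) (hQX : (Q : Subgroup G) ≤ Subgroup.normalizer (X : Set G)) :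
    X ≤ core q L := by
  have h := le_pPrimeCore_of_normalized hL (Q.subtype hQL)
    ⟨⟨fun a b => Subtype.ext (Subtype.ext (congrArg Subtype.val (hQ.is_comm.comm
      (⟨(a : L), a.2⟩ : (Q : Subgroup G)) ⟨(b : L), b.2⟩) :))⟩⟩ (X := X.subgroupOf L)
    (by rwa [Nat.card_congr (Subgroup.subgroupOfEquivOfLe hXL).toEquiv])
    (fun s hs => Subgroup.mem_normalizer_iff.mpr fun x => by
      have h1 := Subgroup.mem_normalizer_iff.mp (hQX (show (s : G) ∈ (Q : Subgroup G) from hs)) (x : G)
      simpa [Subgroup.mem_subgroupOf] using h1)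
  intro x hx
  exact ⟨⟨x, hXL hx⟩, h (show (⟨x, hXL hx⟩ : L) ∈ X.subgroupOf L from hx), rfl⟩

theorem exists_core_mul {L : Subgroup G} (hL : Group.IsSolvable L) (Q : Sylow q G)
    (hQ : IsMulCommutative (Q : Subgroup G)) (hQL : (Q : Subgroup G) ≤ L) {l : G} (hl : l ∈ L) :
    ∃ o ∈ core q L, ∃ n ∈ Subgroup.normalizer ((Q : Subgroup G) : Set G), l = o * n := by
  obtain ⟨o, ho, n, hn, he⟩ := exists_core_mul_normalizer hL (Q.subtype hQL)
    ⟨⟨fun a b => Subtype.ext (Subtype.ext (congrArg Subtype.val (hQ.is_comm.comm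
      (⟨(a : L), a.2⟩ : (Q : Subgroup G)) ⟨(b : L), b.2⟩) :))⟩⟩ ⟨l, hl⟩
  refine ⟨o, ⟨o, ho, rfl⟩, n, Subgroup.mem_normalizer_iff.mpr fun x => ?_, congrArg Subtype.val he⟩
  have hn' := Subgroup.mem_normalizer_iff.mp hn
  constructor
  · intro hx
    have h1 := (hn' ⟨x, hQL hx⟩).mp hx
    exact h1
  · intro hx
    have hxL : x ∈ L := by
      have h2 := L.mul_mem (L.mul_mem (L.inv_mem n.2) (hQL hx)) n.2
      simpa [mul_assoc] using h2
    exact (hn' ⟨x, hxL⟩).mpr hx

variable (Q : Sylow q G)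

/-- The elements of `Q` of order dividing `q`. -/
def omega : Subgroup G := Subgroup.closure {x | x ∈ (Q : Subgroup G) ∧ x ^ q = 1}

/-- The functor `a ↦ O_{q'}(C(a))`. -/
def theta (q : ℕ) (a : G) : Subgroup G := core q (Subgroup.centralizer ({a} : Set G))

/-- The completion of `theta`. -/
def cover : Subgroup G := ⨆ a : {a : G // a ∈ omega Q ∧ a ≠ 1}, theta q (a : G)

/-- The maximal subgroup over `Q`. -/
def big : Subgroup G := cover Q ⊔ Subgroup.normalizer ((Q : Subgroup G) : Set G)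

theorem sylow_le_big : (Q : Subgroup G) ≤ big Q := Subgroup.le_normalizer.trans le_sup_right

variable [hp : Fact p.Prime] (hh : Hyp G p) (hqp : q ≠ p) (hQ : (Q : Subgroup G) ≠ ⊥)

include hh hqp

theorem sylow_comm : IsMulCommutative (Q : Subgroup G) := (hh.ab _ (sylow_coprime hqp Q)).1

theorem sylow_commute {x y : G} (hx : x ∈ (Q : Subgroup G)) (hy : y ∈ (Q : Subgroup G)) :
    x * y = y * x :=
  congrArg Subtype.val ((sylow_comm Q hh hqp).is_comm.comm (⟨x, hx⟩ : (Q : Subgroup G)) ⟨y, hy⟩)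

theorem sylow_le_centralizer {a : G} (ha : a ∈ (Q : Subgroup G)) :
    (Q : Subgroup G) ≤ Subgroup.centralizer ({a} : Set G) := fun _ hx =>
  Subgroup.mem_centralizer_singleton_iff.mpr (sylow_commute Q hh hqp hx ha)

theorem mem_omega {x : G} : x ∈ omega Q ↔ x ∈ (Q : Subgroup G) ∧ x ^ q = 1 := by
  refine ⟨fun hx => ?_, fun hx => Subgroup.subset_closure hx⟩
  induction hx using Subgroup.closure_induction with
  | mem y hy => exact hy
  | one => exact ⟨one_mem _, one_pow _⟩
  | mul y z _ _ hy hz =>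
    refine ⟨mul_mem hy.1 hz.1, ?_⟩
    rw [(show Commute y z from sylow_commute Q hh hqp hy.1 hz.1).mul_pow, hy.2, hz.2, one_mul]
  | inv y _ hy => exact ⟨inv_mem hy.1, by rw [inv_pow, hy.2, inv_one]⟩

theorem omega_le : omega Q ≤ (Q : Subgroup G) := fun _ hx => ((mem_omega Q hh hqp).mp hx).1

theorem isElementary_omega : Cfsg.IsElementaryAbelian q (omega Q) :=
  ⟨⟨⟨fun a b => Subtype.ext (sylow_commute Q hh hqp (omega_le Q hh hqp a.2) (omega_le Q hh hqp b.2))⟩⟩,
    fun _ ha => ((mem_omega Q hh hqp).mp ha).2⟩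

theorem conj_mem_omega {n x : G} (hn : n ∈ Subgroup.normalizer ((Q : Subgroup G) : Set G))
    (hx : x ∈ omega Q) : n * x * n⁻¹ ∈ omega Q := by
  obtain ⟨h1, h2⟩ := (mem_omega Q hh hqp).mp hx
  refine (mem_omega Q hh hqp).mpr ⟨(Subgroup.mem_normalizer_iff.mp hn x).mp h1, ?_⟩
  rw [conj_pow, h2, mul_one, mul_inv_cancel]

include hQ

theorem prime_dvd_pred : q ∣ p - 1 := by
  obtain ⟨x, hx⟩ := exists_prime_orderOf_dvd_card' (G := (Q : Subgroup G)) q (by
    obtain ⟨k, hk⟩ := IsPGroup.iff_card.mp Q.2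
    rcases k with _ | k
    · exact absurd (Subgroup.card_eq_one.mp (by rw [hk, pow_zero])) hQ
    · exact ⟨q ^ k, by rw [hk, pow_succ']⟩)
  have h := hh.orderOf_dvd (x := (x : G)) (by
    rw [Subgroup.orderOf_coe, hx]; exact (Nat.coprime_primes hq.out hp.out).mpr hqp)
  rwa [Subgroup.orderOf_coe, hx] at h

theorem lt_prime : q < p := by
  have h := Nat.le_of_dvd (by have := hp.out.two_le; omega) (prime_dvd_pred Q hh hqp hQ)
  omega

/-- `Q` has rank at least three. -/
theorem card_omega : q ^ 3 ≤ Nat.card (omega Q) := by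
  obtain ⟨n, hn, ⟨k, hk⟩, x, hx, hnx⟩ := hh.exists_p_element hqp Q hQ
  have hcop : (orderOf n).Coprime q := by
    rw [hk]; exact ((Nat.coprime_primes hp.out hq.out).mpr hqp.symm).pow_left k
  obtain ⟨y, hy, hny⟩ : ∃ y ∈ omega Q, n * y * n⁻¹ ≠ y := by
    by_contra hcon
    push Not at hcon
    refine hnx ?_
    have h := commute_of_fix_omega Q.2 (sylow_comm Q hh hqp) hn hcop
      (fun z hz hzq => hcon z ((mem_omega Q hh hqp).mpr ⟨hz, hzq⟩)) x hx
    exact mul_inv_eq_iff_eq_mul.mp h
  have hnz : ∀ g ∈ Subgroup.zpowers n, g ∈ Subgroup.normalizer ((Q : Subgroup G) : Set G) :=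
    Subgroup.zpowers_le.mpr hn
  letI : MulAction (Subgroup.zpowers n) (omega Q) :=
    { smul := fun g v => ⟨(g : G) * v * (g : G)⁻¹, conj_mem_omega Q hh hqp (hnz g g.2) v.2⟩
      one_smul := fun v => Subtype.ext (show ((1 : Subgroup.zpowers n) : G) * v * _⁻¹ = v by simp)
      mul_smul := fun g g' v => Subtype.ext (show ((g * g' : Subgroup.zpowers n) : G) * v * _⁻¹ =
        (g : G) * ((g' : G) * v * (g' : G)⁻¹) * (g : G)⁻¹ by simp [mul_assoc]) }
  have hP : IsPGroup p (Subgroup.zpowers n) := IsPGroup.of_card (n := k) (by rw [Nat.card_zpowers, hk])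
  have hmod := hP.card_modEq_card_fixedPoints (omega Q)
  set D := omega Q ⊓ Subgroup.centralizer ({n} : Set G)
  have hfix : Nat.card (MulAction.fixedPoints (Subgroup.zpowers n) (omega Q)) = Nat.card D := by
    refine Nat.card_congr
      { toFun := fun v => ⟨(v.1 : G), v.1.2, Subgroup.mem_centralizer_singleton_iff.mpr ?_⟩
        invFun := fun v => ⟨⟨(v : G), v.2.1⟩, fun g => ?_⟩
        left_inv := fun v => rfl
        right_inv := fun v => rfl }
    · have h : n * (v.1 : G) * n⁻¹ = (v.1 : G) :=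
        congrArg Subtype.val (v.2 ⟨n, Subgroup.mem_zpowers n⟩)
      exact (mul_inv_eq_iff_eq_mul.mp h).symm
    · refine Subtype.ext (show (g : G) * (v : G) * (g : G)⁻¹ = v from ?_)
      obtain ⟨i, hi⟩ := Subgroup.mem_zpowers_iff.mp g.2
      have hc : Commute n (v : G) := (Subgroup.mem_centralizer_singleton_iff.mp v.2.2).symm
      rw [← hi, (hc.zpow_left i).eq, mul_inv_cancel_right]
  rw [hfix] at hmod
  obtain ⟨i, hi⟩ := IsPGroup.iff_card.mp (Q.2.to_le (omega_le Q hh hqp))
  obtain ⟨j, hj⟩ := IsPGroup.iff_card.mp ((Q.2.to_le (omega_le Q hh hqp)).to_le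
    (inf_le_left : D ≤ omega Q))
  have hlt : j < i := by
    by_contra hle
    have hDeq : D = omega Q := Subgroup.eq_of_le_of_card_ge inf_le_left
      (by rw [hi, hj]; exact Nat.pow_le_pow_right hq.out.pos (by omega))
    have : y ∈ D := hDeq ▸ hy
    exact hny (mul_inv_eq_iff_eq_mul.mpr (Subgroup.mem_centralizer_singleton_iff.mp this.2).symm)
  rw [hi]
  refine Nat.pow_le_pow_right hq.out.pos ?_
  by_contra h3
  rw [hi, hj] at hmod
  have hqlt := lt_prime Q hh hqp hQ
  have h5 := hh.five_le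
  have hndvd : ¬ p ∣ q := fun h => hqp ((Nat.prime_dvd_prime_iff_eq hp.out hq.out).mp h).symm
  have hsub : p ∣ q ^ i - q ^ j :=
    (Nat.modEq_iff_dvd' (Nat.pow_le_pow_right hq.out.pos hlt.le)).mp hmod.symm
  have hfac : q ^ i - q ^ j = q ^ j * (q ^ (i - j) - 1) := by
    rw [Nat.mul_sub, ← pow_add, mul_one, Nat.add_sub_cancel' hlt.le]
  rw [hfac, hp.out.dvd_mul] at hsub
  have hd : p ∣ q ^ (i - j) - 1 := hsub.resolve_left fun h => hndvd (hp.out.dvd_of_dvd_pow h)
  have h2 := hq.out.two_le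
  rcases (show i - j = 1 ∨ i - j = 2 by omega) with h | h <;> rw [h] at hd
  · rw [pow_one] at hd
    have := Nat.le_of_dvd (by omega) hd
    omega
  · have e : q ^ 2 - 1 = (q - 1) * (q + 1) := by
      rw [show q ^ 2 - 1 = q ^ 2 - 1 ^ 2 by rw [one_pow], Nat.sq_sub_sq, mul_comm]
    rw [e, hp.out.dvd_mul] at hd
    rcases hd with hd | hd
    · have := Nat.le_of_dvd (by omega) hd
      omega
    · have := Nat.le_of_dvd (by omega) hd
      have heq : p = q + 1 := by omega
      rcases hq.out.eq_two_or_odd' with h' | ⟨c, hc⟩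
      · omega
      · exact hh.ne_two ((Nat.prime_dvd_prime_iff_eq Nat.prime_two hp.out).mp ⟨c + 1, by omega⟩).symm

theorem isSignalizer : Cfsg.IsSolvableSignalizerFunctor q (omega Q) (theta q) := by
  have hcsol : ∀ a : G, a ≠ 1 → Group.IsSolvable (Subgroup.centralizer ({a} : Set G)) :=
    fun a ha => hh.proper _ (hh.centralizer_ne_top ha)
  refine ⟨⟨fun a _ _ => core_le _, fun a _ _ hd => ?_, fun a ha _ b hb x hx => ?_, ?_⟩, fun a _ ha1 => ?_⟩
  · exact (hq.out.coprime_iff_not_dvd.mp (core_coprime (Subgroup.centralizer ({a} : Set G))).symm) hd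
  · exact (Subgroup.mem_normalizer_iff.mp (le_normalizer_core _
      (sylow_le_centralizer Q hh hqp (omega_le Q hh hqp ha) (omega_le Q hh hqp hb))) x).mp hx
  · intro a ha _ b hb hb1
    refine le_core_of_normalized (hcsol b hb1) Q (sylow_comm Q hh hqp)
      (sylow_le_centralizer Q hh hqp (omega_le Q hh hqp hb)) inf_le_right
      ((core_coprime _).coprime_dvd_left (Subgroup.card_dvd_of_le inf_le_left)) ?_
    exact Coprime.le_normalizer_inf_of_le
      ((sylow_le_centralizer Q hh hqp (omega_le Q hh hqp ha)).trans (le_normalizer_core _))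
      ((sylow_le_centralizer Q hh hqp (omega_le Q hh hqp hb)).trans Subgroup.le_normalizer)
  · haveI := hcsol a ha1
    exact Group.isSolvable_of_isSolvable_injective (Subgroup.inclusion_injective
      (core_le (Subgroup.centralizer ({a} : Set G))))

theorem cover_props : Group.IsSolvable (cover Q) ∧ (Nat.card (cover Q)).Coprime q := by
  obtain ⟨W, hW, hWq, hle⟩ := Signalizer.hasCover (isElementary_omega Q hh hqp)
    (card_omega Q hh hqp hQ) (isSignalizer Q hh hqp hQ)
  have hcW : cover Q ≤ W := iSup_le fun a => (hle a a.2.1 a.2.2).1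
  haveI := hW
  exact ⟨Group.isSolvable_of_isSolvable_injective (Subgroup.inclusion_injective hcW),
    (hq.out.coprime_iff_not_dvd.mpr hWq).symm.coprime_dvd_left (Subgroup.card_dvd_of_le hcW)⟩

theorem theta_le_cover {a : G} (ha : a ∈ omega Q) (ha1 : a ≠ 1) : theta q a ≤ cover Q :=
  le_iSup (fun a : {a : G // a ∈ omega Q ∧ a ≠ 1} => theta q (a : G)) ⟨a, ha, ha1⟩

theorem normalizer_le_cover :
    Subgroup.normalizer ((Q : Subgroup G) : Set G) ≤ Subgroup.normalizer (cover Q : Set G) := by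
  have key : ∀ n ∈ Subgroup.normalizer ((Q : Subgroup G) : Set G),
      ∀ x ∈ cover Q, n * x * n⁻¹ ∈ cover Q := by
    intro n hn
    suffices h : cover Q ≤ (cover Q).comap (MulAut.conj n).toMonoidHom from fun x hx => h hx
    refine iSup_le fun a => ?_
    rw [← Subgroup.map_le_iff_le_comap]
    have ha : n * (a : G) * n⁻¹ ∈ omega Q := conj_mem_omega Q hh hqp hn a.2.1
    have ha1 : n * (a : G) * n⁻¹ ≠ 1 := fun h => a.2.2 (conj_eq_one_iff.mp h)
    refine le_trans ?_ (theta_le_cover Q hh hqp hQ ha ha1)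
    refine le_core_of_normalized (hh.proper _ (hh.centralizer_ne_top ha1)) Q (sylow_comm Q hh hqp)
      (sylow_le_centralizer Q hh hqp (omega_le Q hh hqp ha)) ?_ ?_ ?_
    · rintro _ ⟨x, hx, rfl⟩
      have hc : x * (a : G) = a * x := Subgroup.mem_centralizer_singleton_iff.mp (core_le _ hx)
      refine Subgroup.mem_centralizer_singleton_iff.mpr ?_
      show n * x * n⁻¹ * (n * a * n⁻¹) = n * a * n⁻¹ * (n * x * n⁻¹)
      calc n * x * n⁻¹ * (n * a * n⁻¹) = n * (x * a) * n⁻¹ := by group
        _ = n * (a * x) * n⁻¹ := by rw [hc]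
        _ = _ := by group
    · rw [Subgroup.card_map_of_injective (MulAut.conj n).injective]
      exact core_coprime _
    · intro s hs
      have hs' : n⁻¹ * s * n ∈ (Q : Subgroup G) := by
        have := (Subgroup.mem_normalizer_iff.mp (inv_mem hn) s).mp hs
        rwa [inv_inv] at this
      have hN := Subgroup.le_normalizer_map (H := theta q (a : G)) (MulAut.conj n).toMonoidHom
        (Subgroup.mem_map_of_mem (MulAut.conj n).toMonoidHom ((sylow_le_centralizer Q hh hqp
          (omega_le Q hh hqp a.2.1)).trans (le_normalizer_core _) hs'))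
      have e : (MulAut.conj n).toMonoidHom (n⁻¹ * s * n) = s := by
        show n * (n⁻¹ * s * n) * n⁻¹ = s
        group
      rwa [e] at hN
  intro n hn
  refine Subgroup.mem_normalizer_iff.mpr fun x => ⟨key n hn x, fun h => ?_⟩
  have := key n⁻¹ (inv_mem hn) _ h
  simpa [mul_assoc] using this

theorem big_ne_top : big Q ≠ ⊤ := by
  intro h
  obtain ⟨hsol, -⟩ := cover_props Q hh hqp hQ
  have hN : Subgroup.normalizer (cover Q : Set G) = ⊤ := top_le_iff.mp
    (h ▸ sup_le Subgroup.le_normalizer (normalizer_le_cover Q hh hqp hQ))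
  have hb : cover Q = ⊥ := (hh.eq_bot_or_eq_top (Subgroup.normalizer_eq_top_iff.mp hN)).resolve_right
    (hh.ne_top_of_isSolvable hsol)
  rw [big, hb, bot_sup_eq] at h
  refine hh.normalizer_ne_top hQ ?_ h
  exact hh.ne_top_of_isSolvable (haveI := Q.2.isNilpotent; inferInstance)

theorem centralizer_le_big_of_omega {a : G} (ha : a ∈ omega Q) (ha1 : a ≠ 1) :
    Subgroup.centralizer ({a} : Set G) ≤ big Q := by
  intro c hc
  obtain ⟨o, ho, n, hn, rfl⟩ := exists_core_mul (hh.proper _ (hh.centralizer_ne_top ha1)) Q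
    (sylow_comm Q hh hqp) (sylow_le_centralizer Q hh hqp (omega_le Q hh hqp ha)) hc
  exact mul_mem (Subgroup.mem_sup_left (theta_le_cover Q hh hqp hQ ha ha1 ho))
    (Subgroup.mem_sup_right hn)

/-- Every proper subgroup containing `Q` lies in `big Q`. -/
theorem le_big {L : Subgroup G} (hL : L ≠ ⊤) (hQL : (Q : Subgroup G) ≤ L) : L ≤ big Q := by
  intro l hl
  obtain ⟨o, ho, n, hn, rfl⟩ := exists_core_mul (hh.proper L hL) Q (sylow_comm Q hh hqp) hQL hl
  refine mul_mem ?_ (Subgroup.mem_sup_right hn)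
  haveI := (isElementary_omega Q hh hqp).1
  refine Coprime.le_of_centralizer_le (A := omega Q) (K := core q L) (Y := big Q) ?_ ?_ ?_ ?_ ho
  · refine Coprime.not_isCyclic_of_exponent (isElementary_omega Q hh hqp).2 hq.out.pos ?_
    refine lt_of_lt_of_le ?_ (card_omega Q hh hqp hQ)
    nth_rewrite 1 [← pow_one q]
    exact Nat.pow_lt_pow_right hq.out.one_lt (by norm_num)
  · exact ((omega_le Q hh hqp).trans hQL).trans (le_normalizer_core L)
  · obtain ⟨i, hi⟩ := IsPGroup.iff_card.mp (Q.2.to_le (omega_le Q hh hqp))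
    rw [hi]
    exact (core_coprime L).symm.pow_left i
  · exact fun a ha ha1 => inf_le_right.trans (centralizer_le_big_of_omega Q hh hqp hQ ha ha1)

theorem centralizer_le_big {a : G} (ha : a ∈ (Q : Subgroup G)) (ha1 : a ≠ 1) :
    Subgroup.centralizer ({a} : Set G) ≤ big Q :=
  le_big Q hh hqp hQ (hh.centralizer_ne_top ha1) (sylow_le_centralizer Q hh hqp ha)

end CfsgLib.PPrimeAbelian
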